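import Cfsg.Agent.UGT.I34.OnCode_m3
import Cfsg.Agent.OddCyclic.EmpFFAlt
import Cfsg.Prelude.Def_EvenType
import Cfsg.Agent.SylowSp4.Recog
import Cfsg.Agent.FastGrp
import Cfsg.Agent.Prune
set_option linter.all false

section
prune_inst 0x7f00000000000000000000000000000000000000000000000000000000000000000000000000000000000000000000000000000000000000000000000000000000000000000000000000000000000000003fffffffffffffffffffffffffffbeffbdffffffff

-- part: H284/RankFix
section
set_option linter.all false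
open scoped Cfsg.Agent.FastGrp

/-!
# Harada's theorem for involutory automorphisms (helper284)

* `rank_fix` : `x` an involutory automorphism of `X`, `V ≤ C_X(x)` a four-group with `C_{C_X(x)}(V) ≤ V`: `X` has sectional
  2-rank at most 4;
* `rank_a5` : the same if `A₅ ≅ A ⊴ C_X(x)` with trivial centralizer.
-/

set_option autoImplicit false

namespace Cfsg.Agent.H284.RankFix

open Subgroup Cfsg Cfsg.Agent

universe u

section semi

variable {X : Type u} [Group X]

/-- `X ⋊ ⟨x⟩` -/
abbrev Y (x : MulAut X) : Type u := X ⋊[(zpowers x).subtype] ↥(zpowers x)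

/-- `V × ⟨x⟩` -/
def EE {x : MulAut X} {V : Subgroup X} (hV : V ≤ fixedSubgroup x) : Subgroup (Y x) where
  carrier := {y | y.left ∈ V}
  one_mem' := V.one_mem
  mul_mem' {a} {b} ha hb := by
    change a.left * ((zpowers x).subtype a.right) b.left ∈ V
    have h1 : ∀ c ∈ zpowers x, ∀ v ∈ V, c v = v := by
      intro c hc v hv
      obtain ⟨n, rfl⟩ := mem_zpowers_iff.1 hc
      have h2 : x v = v := hV hv
      have h3 : v ∈ fixedSubgroup x := h2
      have h4 : x ∈ MulAction.stabilizer (MulAut X) v := h2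
      exact zpow_mem h4 n
    rw [show ((zpowers x).subtype a.right) b.left = b.left from h1 _ a.right.2 _ hb]
    exact V.mul_mem ha hb
  inv_mem' {a} ha := by
    change ((zpowers x).subtype a.right⁻¹) a.left⁻¹ ∈ V
    have h1 : ∀ c ∈ zpowers x, ∀ v ∈ V, c v = v := by
      intro c hc v hv
      obtain ⟨n, rfl⟩ := mem_zpowers_iff.1 hc
      have h2 : x v = v := hV hv
      have h4 : x ∈ MulAction.stabilizer (MulAut X) v := h2
      exact zpow_mem h4 n
    rw [show ((zpowers x).subtype a.right⁻¹) a.left⁻¹ = a.left⁻¹ from h1 _ (a.right⁻¹).2 _ (V.inv_mem ha)]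
    exact V.inv_mem ha

theorem fix_zpowers {x : MulAut X} {c : MulAut X} (hc : c ∈ zpowers x) {v : X} (hv : v ∈ fixedSubgroup x) : c v = v := by
  obtain ⟨n, rfl⟩ := mem_zpowers_iff.1 hc
  have h4 : x ∈ MulAction.stabilizer (MulAut X) v := hv
  exact zpow_mem h4 n

/-- **Harada's theorem for an involutory automorphism.** -/
theorem rank_fix [Finite X] {x : MulAut X} (hxx : x * x = 1) (hx1 : x ≠ 1) (V : Subgroup X)
    (hV : V ≤ fixedSubgroup x) (hc : ∀ a ∈ V, ∀ b ∈ V, a * b = b * a) (h2 : ∀ a ∈ V, a * a = 1)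
    (h4 : Nat.card ↥V = 4) (hC : ∀ g ∈ fixedSubgroup x, (∀ v ∈ V, g * v = v * g) → g ∈ V) :
    SectionalPRankLE 2 4 X := by
  have hfin : Finite (Y x) := Finite.of_equiv _ SemidirectProduct.equivProd.symm
  have hox : orderOf x = 2 := by
    apply orderOf_eq_prime _ hx1
    rw [pow_two, hxx]
  have hzc : ∀ a b : ↥(zpowers x), a * b = b * a := fun a b =>
    (IsMulCommutative.is_comm (M := ↥(zpowers x))).comm a b
  have hzz : ∀ a : ↥(zpowers x), a * a = 1 := by
    intro a
    have h1 := pow_card_eq_one' (x := a)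
    rw [Nat.card_zpowers, hox, pow_two] at h1
    exact h1
  set E := EE hV with hE
  have hfx : ∀ c : ↥(zpowers x), ∀ v ∈ V, (c : MulAut X) v = v := fun c v hv => fix_zpowers c.2 (hV hv)
  have hmul : ∀ a b : Y x, a * b = ⟨a.left * (a.right : MulAut X) b.left, a.right * b.right⟩ := fun a b => rfl
  have hcE : ∀ a ∈ E, ∀ b ∈ E, a * b = b * a := by
    intro a ha b hb
    rw [hmul, hmul, hfx _ _ hb, hfx _ _ ha, hc _ ha _ hb, hzc]
  have h2E : ∀ a ∈ E, a * a = 1 := by
    intro a ha
    rw [hmul, hfx _ _ ha, h2 _ ha, hzz]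
    rfl
  have hcard : Nat.card ↥E = 8 := by
    let f : ↥E ≃ ↥V × ↥(zpowers x) :=
      { toFun := fun a => (⟨(a : Y x).left, a.2⟩, (a : Y x).right)
        invFun := fun b => ⟨⟨b.1, b.2⟩, b.1.2⟩
        left_inv := fun a => rfl
        right_inv := fun b => rfl }
    rw [Nat.card_congr f, Nat.card_prod, h4, Nat.card_zpowers, hox]
  have hEp : IsPGroup 2 ↥E := IsPGroup.of_card (n := 3) (by rw [hcard]; norm_num)
  obtain ⟨S, hES⟩ := hEp.exists_le_sylow
  have hr := OddHalf.D6.Harada.rank_of_self S E hES hcE h2E hcard (by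
    intro s _ hs
    -- `s` commutes with `x` and `V`
    have h1 : (⟨1, ⟨x, mem_zpowers x⟩⟩ : Y x) ∈ E := V.one_mem
    have h3 := hs _ h1
    have h5 : s.left = x s.left := by
      have := congrArg SemidirectProduct.left h3
      rw [hmul, hmul] at this
      change s.left * (s.right : MulAut X) 1 = 1 * x s.left at this
      rwa [map_one, mul_one, one_mul] at this
    refine hC s.left h5.symm ?_
    intro v hv
    have h6 : (⟨v, 1⟩ : Y x) ∈ E := hv
    have h7 := congrArg SemidirectProduct.left (hs _ h6)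
    rw [hmul, hmul] at h7
    change s.left * (s.right : MulAut X) v = v * ((1 : ↥(zpowers x)) : MulAut X) s.left at h7
    rw [hfx _ _ hv] at h7
    exact h7)
  exact GH.Rank.of_injective hr (SemidirectProduct.inl : X →* Y x) SemidirectProduct.inl_injective

end semi

section five

open Equiv Equiv.Perm

/-- `(0 1)(2 3)` -/
def pa : Perm (Fin 5) := swap 0 1 * swap 2 3
/-- `(0 2)(1 3)` -/
def pb : Perm (Fin 5) := swap 0 2 * swap 1 3

theorem pa_mem : pa ∈ alternatingGroup (Fin 5) := by rw [Equiv.Perm.mem_alternatingGroup]; decide +kernel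
theorem pb_mem : pb ∈ alternatingGroup (Fin 5) := by rw [Equiv.Perm.mem_alternatingGroup]; decide +kernel
theorem pa_sq : pa * pa = 1 := by decide +kernel
theorem pb_sq : pb * pb = 1 := by decide +kernel
theorem pab : pa * pb = pb * pa := by decide +kernel
theorem pa_ne : pa ≠ 1 := by decide +kernel
theorem pb_ne : pb ≠ 1 := by decide +kernel
theorem pa_ne_pb : pa ≠ pb := by decide +kernel
theorem cent_five : ∀ s : Perm (Fin 5), s * pa = pa * s → s * pb = pb * s →
    s = 1 ∨ s = pa ∨ s = pb ∨ s = pa * pb := by decide +kernel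

/-- a four-group given by two commuting involutions -/
def four {G : Type*} [Group G] (a b : G) (ha : a * a = 1) (hb : b * b = 1) (hab : a * b = b * a) : Subgroup G where
  carrier := {1, a, b, a * b}
  one_mem' := Or.inl rfl
  mul_mem' {x} {y} hx hy := by
    have hba : b * a = a * b := hab.symm
    simp only [Set.mem_insert_iff, Set.mem_singleton_iff] at hx hy ⊢
    rcases hx with rfl | rfl | rfl | rfl <;> rcases hy with rfl | rfl | rfl | rfl
    · simp
    · simp
    · simp
    · simp
    · simp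
    · left; exact ha
    · simp
    · right; right; left; rw [← mul_assoc, ha, one_mul]
    · simp
    · right; right; right; exact hba
    · left; exact hb
    · right; left; rw [← mul_assoc, hba, mul_assoc, hb, mul_one]
    · simp
    · right; right; left; rw [mul_assoc, hba, ← mul_assoc, ha, one_mul]
    · right; left; rw [mul_assoc, hb, mul_one]
    · left; rw [mul_assoc, ← mul_assoc b a b, hba, mul_assoc a b, hb, mul_one, ha]
  inv_mem' {x} hx := by
    simp only [Set.mem_insert_iff, Set.mem_singleton_iff] at hx ⊢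
    have e1 : a⁻¹ = a := inv_eq_of_mul_eq_one_left ha
    have e2 : b⁻¹ = b := inv_eq_of_mul_eq_one_left hb
    rcases hx with rfl | rfl | rfl | rfl
    · simp
    · right; left; exact e1
    · right; right; left; exact e2
    · right; right; right; rw [mul_inv_rev, e1, e2, hab]

theorem mem_four {G : Type*} [Group G] {a b : G} {ha : a * a = 1} {hb : b * b = 1} {hab : a * b = b * a} {x : G} :
    x ∈ four a b ha hb hab ↔ x = 1 ∨ x = a ∨ x = b ∨ x = a * b := Iff.rfl

theorem card_four {G : Type*} [Group G] {a b : G} (ha : a * a = 1) (hb : b * b = 1) (hab : a * b = b * a)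
    (ha1 : a ≠ 1) (hb1 : b ≠ 1) (hne : a ≠ b) : Nat.card ↥(four a b ha hb hab) = 4 := by
  classical
  have hab1 : a * b ≠ 1 := by
    intro h
    apply hne
    have h1 := congrArg (fun z => z * b) h
    simpa [mul_assoc, hb] using h1
  have h1 : ((four a b ha hb hab : Subgroup G) : Set G) = (({1, a, b, a * b} : Finset G) : Set G) := by
    ext x
    simp only [Finset.coe_insert, Finset.coe_singleton, Set.mem_insert_iff, Set.mem_singleton_iff]
    exact Iff.rfl
  have h2 : Nat.card ↥(four a b ha hb hab) = ({1, a, b, a * b} : Finset G).card := by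
    rw [← Set.ncard_coe_finset, ← h1]
    rfl
  rw [h2, Finset.card_insert_of_notMem, Finset.card_insert_of_notMem, Finset.card_insert_of_notMem,
    Finset.card_singleton]
  · rw [Finset.mem_singleton]
    intro h
    apply ha1
    have h3 := congrArg (fun z => z * b⁻¹) h
    simpa using h3.symm
  · rw [Finset.mem_insert, Finset.mem_singleton, not_or]
    refine ⟨hne, fun h => hb1 ?_⟩
    have h3 := congrArg (fun z => a⁻¹ * z) h
    simpa using h3.symm
  · rw [Finset.mem_insert, Finset.mem_insert, Finset.mem_singleton, not_or, not_or]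
    exact ⟨fun h => ha1 h.symm, fun h => hb1 h.symm, fun h => hab1 h.symm⟩

theorem comm_four {G : Type*} [Group G] {a b : G} {ha : a * a = 1} {hb : b * b = 1} {hab : a * b = b * a} :
    ∀ x ∈ four a b ha hb hab, ∀ y ∈ four a b ha hb hab, x * y = y * x := by
  intro x hx y hy
  have hba : b * a = a * b := hab.symm
  have h1 : a * (a * b) = b := by rw [← mul_assoc, ha, one_mul]
  have h2 : a * b * a = b := by rw [mul_assoc, hba, ← mul_assoc, ha, one_mul]
  have h3 : b * (a * b) = a := by rw [← mul_assoc, hba, mul_assoc, hb, mul_one]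
  have h4 : a * b * b = a := by rw [mul_assoc, hb, mul_one]
  rcases hx with rfl | rfl | rfl | rfl <;> rcases hy with rfl | rfl | rfl | rfl <;> simp [hba, h1, h2, h3, h4]

theorem sq_four {G : Type*} [Group G] {a b : G} {ha : a * a = 1} {hb : b * b = 1} {hab : a * b = b * a} :
    ∀ x ∈ four a b ha hb hab, x * x = 1 := by
  intro x hx
  have hba : b * a = a * b := hab.symm
  rcases hx with rfl | rfl | rfl | rfl
  · simp
  · exact ha
  · exact hb
  · rw [mul_assoc, ← mul_assoc b a b, hba, mul_assoc a b, hb, mul_one, ha]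

/-- `H` almost simple over `A = A₅`: a self-centralizing four-group -/
theorem exists_four {H : Type*} [Group H] {A : Subgroup H} (hn : A.Normal) (hc : centralizer (A : Set H) = ⊥)
    (e : ↥A ≃* ↥(alternatingGroup (Fin 5))) : ∃ V : Subgroup H, V ≤ A ∧ (∀ a ∈ V, ∀ b ∈ V, a * b = b * a) ∧
      (∀ a ∈ V, a * a = 1) ∧ Nat.card ↥V = 4 ∧ ∀ g : H, (∀ v ∈ V, g * v = v * g) → g ∈ V := by
  set a : ↥A := e.symm ⟨pa, pa_mem⟩ with ha
  set b : ↥A := e.symm ⟨pb, pb_mem⟩ with hb
  have haa : a * a = 1 := by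
    rw [ha, ← map_mul, ← map_one e.symm]
    exact congrArg e.symm (Subtype.ext pa_sq)
  have hbb : b * b = 1 := by
    rw [hb, ← map_mul, ← map_one e.symm]
    exact congrArg e.symm (Subtype.ext pb_sq)
  have hab : a * b = b * a := by
    rw [ha, hb, ← map_mul, ← map_mul]
    exact congrArg e.symm (Subtype.ext pab)
  have ha1 : a ≠ 1 := by
    intro h
    rw [ha, ← map_one e.symm] at h
    exact pa_ne (congrArg Subtype.val (e.symm.injective h))
  have hb1 : b ≠ 1 := by
    intro h
    rw [hb, ← map_one e.symm] at h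
    exact pb_ne (congrArg Subtype.val (e.symm.injective h))
  have hne : a ≠ b := by
    intro h
    rw [ha, hb] at h
    exact pa_ne_pb (congrArg Subtype.val (e.symm.injective h))
  have haa' : (a : H) * a = 1 := congrArg Subtype.val haa
  have hbb' : (b : H) * b = 1 := congrArg Subtype.val hbb
  have hab' : (a : H) * b = b * a := congrArg Subtype.val hab
  refine ⟨four (a : H) b haa' hbb' hab', ?_, comm_four, sq_four, ?_, ?_⟩
  · intro x hx
    rcases hx with rfl | rfl | rfl | rfl
    · exact A.one_mem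
    · exact a.2
    · exact b.2
    · exact A.mul_mem a.2 b.2
  · exact card_four _ _ _ (fun h => ha1 (Subtype.ext h)) (fun h => hb1 (Subtype.ext h)) (fun h => hne (Subtype.ext h))
  · intro g hg
    let c : MulAut ↥(alternatingGroup (Fin 5)) := (e.symm.trans (MulAut.conjNormal g : MulAut ↥A)).trans e
    obtain ⟨s, hs⟩ := OddCyclic.EmpFFAlt.exists_conj c
    have hga : (MulAut.conjNormal g : MulAut ↥A) a = a := by
      apply Subtype.ext
      rw [MulAut.conjNormal_apply]
      have := hg a (mem_four.2 (Or.inr (Or.inl rfl)))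
      rw [this, mul_inv_cancel_right]
    have hgb : (MulAut.conjNormal g : MulAut ↥A) b = b := by
      apply Subtype.ext
      rw [MulAut.conjNormal_apply]
      have := hg b (mem_four.2 (Or.inr (Or.inr (Or.inl rfl))))
      rw [this, mul_inv_cancel_right]
    have hsa : s * pa = pa * s := by
      have h1 := hs ⟨pa, pa_mem⟩
      have h2 : c ⟨pa, pa_mem⟩ = ⟨pa, pa_mem⟩ := by
        change e ((MulAut.conjNormal g : MulAut ↥A) (e.symm ⟨pa, pa_mem⟩)) = _
        rw [← ha, hga, ha, e.apply_symm_apply]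
      rw [h2] at h1
      exact (eq_mul_inv_iff_mul_eq.1 h1).symm
    have hsb : s * pb = pb * s := by
      have h1 := hs ⟨pb, pb_mem⟩
      have h2 : c ⟨pb, pb_mem⟩ = ⟨pb, pb_mem⟩ := by
        change e ((MulAut.conjNormal g : MulAut ↥A) (e.symm ⟨pb, pb_mem⟩)) = _
        rw [← hb, hgb, hb, e.apply_symm_apply]
      rw [h2] at h1
      exact (eq_mul_inv_iff_mul_eq.1 h1).symm
    -- the element of `A` with the same action
    have key : ∀ (w : ↥A), ((e w : ↥(alternatingGroup (Fin 5))) : Perm (Fin 5)) = s → g = w := by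
      intro w hw
      have h1 : (w : H)⁻¹ * g ∈ centralizer (A : Set H) := by
        rw [mem_centralizer_iff]
        intro y hy
        have h2 := hs (e ⟨y, hy⟩)
        have h3 : c (e ⟨y, hy⟩) = e (w * ⟨y, hy⟩ * w⁻¹) := by
          apply Subtype.ext
          rw [h2, map_mul, map_mul, map_inv, ← hw]
          rfl
        have h4 : c (e ⟨y, hy⟩) = e ((MulAut.conjNormal g : MulAut ↥A) ⟨y, hy⟩) := by
          change e ((MulAut.conjNormal g : MulAut ↥A) (e.symm (e ⟨y, hy⟩))) = _
          rw [e.symm_apply_apply]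
        rw [h4] at h3
        have h5 := congrArg Subtype.val (e.injective h3)
        rw [MulAut.conjNormal_apply] at h5
        change g * y * g⁻¹ = (w : H) * y * (w : H)⁻¹ at h5
        have h6 : g * y = (w : H) * y * (w : H)⁻¹ * g := by rw [← h5, inv_mul_cancel_right]
        rw [mul_assoc _ g y, h6]
        group
      rw [hc, mem_bot] at h1
      exact (inv_mul_eq_one.1 h1).symm
    rw [mem_four]
    rcases cent_five s hsa hsb with h | h | h | h
    · left
      exact key 1 (by rw [map_one, h]; rfl)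
    · right; left
      exact key a (by rw [ha, e.apply_symm_apply, h])
    · right; right; left
      exact key b (by rw [hb, e.apply_symm_apply, h])
    · right; right; right
      exact key (a * b) (by rw [map_mul, ha, hb, e.apply_symm_apply, e.apply_symm_apply, h]; rfl)

/-- **`C_X(x)` almost simple over `A₅`: `X` has sectional 2-rank at most 4.** -/
theorem rank_a5 {X : Type u} [Group X] [Finite X] {x : MulAut X} (hxx : x * x = 1) (hx1 : x ≠ 1)
    {A : Subgroup ↥(fixedSubgroup x)} (hn : A.Normal) (hc : centralizer (A : Set ↥(fixedSubgroup x)) = ⊥)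
    (e : ↥A ≃* ↥(alternatingGroup (Fin 5))) : SectionalPRankLE 2 4 X := by
  obtain ⟨V, -, h1, h2, h3, h4⟩ := exists_four hn hc e
  refine rank_fix hxx hx1 (V.map (fixedSubgroup x).subtype) (map_subtype_le V) ?_ ?_ ?_ ?_
  · rintro _ ⟨a, ha, rfl⟩ _ ⟨b, hb, rfl⟩
    exact congrArg Subtype.val (h1 a ha b hb)
  · rintro _ ⟨a, ha, rfl⟩
    exact congrArg Subtype.val (h2 a ha)
  · rw [card_map_of_injective (fixedSubgroup x).subtype_injective]
    exact h3
  · intro g hg hgv
    refine ⟨⟨g, hg⟩, h4 ⟨g, hg⟩ fun v hv => Subtype.ext (hgv v ⟨v, hv, rfl⟩), rfl⟩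

end five

end Cfsg.Agent.H284.RankFix

private theorem dce_b0662cff99a7 : _root_.True := by
  try have : _root_.True := by simp only [_root_.Cfsg.Agent.H284.RankFix.four.congr_simp]
  exact _root_.True.intro
end

-- part: H300/RankSp4
section
set_option linter.all false
open scoped Cfsg.Agent.FastGrp

/-!
# The sectional 2-rank of `PSp₄(q)`, `q` odd, is at most four (helper300)
-/

set_option autoImplicit false

namespace Cfsg.Agent.H300.RankSp4

open Subgroup Cfsg QuaternionGroup Cfsg.Agent.SylowSp4.Coord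

section quat

variable {k : ℕ} {m : ZMod (2 * 2 ^ k)}

theorem dbl (hm : m + m = ((2 ^ k : ℕ) : ZMod (2 * 2 ^ k))) {t : ZMod (2 * 2 ^ k)}
    (h : t + t = ((2 ^ k : ℕ) : ZMod (2 * 2 ^ k))) : t = m ∨ t = m + ((2 ^ k : ℕ) : ZMod (2 * 2 ^ k)) := by
  have h1 : (t - m) + (t - m) = 0 := by linear_combination h - hm
  rcases eq_of_add_self h1 with h2 | h2
  · left; linear_combination h2
  · right; linear_combination h2

/-- an element commuting up to sign with `i` and `j` -/
theorem cls (hm : m + m = ((2 ^ k : ℕ) : ZMod (2 * 2 ^ k))) {g : Q k} :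
    (g * a m = a m * g → g * xa 0 = xa 0 * g → g = 1 ∨ g = z k) ∧
    (g * a m = a m * g → g * xa 0 = z k * (xa 0 * g) → g = a m ∨ g = z k * a m) ∧
    (g * a m = z k * (a m * g) → g * xa 0 = xa 0 * g → g = xa 0 ∨ g = z k * xa 0) ∧
    (g * a m = z k * (a m * g) → g * xa 0 = z k * (xa 0 * g) → g = a m * xa 0 ∨ g = z k * (a m * xa 0)) := by
  have hz := two_pow_add (k := k)
  have hz0 := half_ne_zero (k := k)
  rcases g with t | t
  · refine ⟨fun _ h => ?_, fun _ h => ?_, fun h _ => ?_, fun h _ => ?_⟩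
    · rw [a_mul_xa, xa_mul_a] at h
      have h1 := QuaternionGroup.xa.inj h
      have h2 : t + t = 0 := by linear_combination -h1
      rcases eq_of_add_self h2 with h3 | h3
      · left; rw [h3, one_def]
      · right; rw [h3, z]
    · rw [a_mul_xa, xa_mul_a, z, a_mul_xa] at h
      have h1 := QuaternionGroup.xa.inj h
      have h2 : t + t = ((2 ^ k : ℕ) : ZMod (2 * 2 ^ k)) := by linear_combination -h1
      rcases dbl hm h2 with h3 | h3
      · left; rw [h3]
      · right; rw [h3, z, a_mul_a, add_comm]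
    · exfalso
      rw [a_mul_a, z, a_mul_a, a_mul_a] at h
      have h1 := QuaternionGroup.a.inj h
      exact hz0 (by linear_combination -h1)
    · exfalso
      rw [a_mul_a, z, a_mul_a, a_mul_a] at h
      have h1 := QuaternionGroup.a.inj h
      exact hz0 (by linear_combination -h1)
  · refine ⟨fun h _ => ?_, fun h _ => ?_, fun _ h => ?_, fun _ h => ?_⟩
    · exfalso
      rw [xa_mul_a, a_mul_xa] at h
      have h1 := QuaternionGroup.xa.inj h
      exact hz0 (by linear_combination h1 - hm)
    · exfalso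
      rw [xa_mul_a, a_mul_xa] at h
      have h1 := QuaternionGroup.xa.inj h
      exact hz0 (by linear_combination h1 - hm)
    · rw [xa_mul_xa, xa_mul_xa] at h
      have h1 := QuaternionGroup.a.inj h
      have h2 : t + t = 0 := by linear_combination -h1
      rcases eq_of_add_self h2 with h3 | h3
      · left; rw [h3]
      · right
        rw [h3, z, a_mul_xa]
        congr 1
        linear_combination hz
    · rw [xa_mul_xa, xa_mul_xa, z, a_mul_a] at h
      have h1 := QuaternionGroup.a.inj h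
      have h2 : t + t = ((2 ^ k : ℕ) : ZMod (2 * 2 ^ k)) := by linear_combination -h1 - hz
      rcases dbl hm h2 with h3 | h3
      · right
        rw [h3, a_mul_xa, z, a_mul_xa]
        congr 1
        linear_combination hm + hz
      · left
        rw [h3, a_mul_xa]
        congr 1
        linear_combination hm + hz

end quat

variable {G : Type*} [Group G] {S : Subgroup G} {k : ℕ} {f : Q k → Q k → G} {s : G}

/-- **The rank in coordinates** -/
theorem rank_of_coord [Finite G] (P : Sylow 2 G) (h : TSp (P : Subgroup G) k f s) : SectionalPRankLE 2 4 G := by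
  obtain ⟨n, rfl⟩ : ∃ n, k = n + 1 := ⟨k - 1, by have := h.hk; omega⟩
  obtain ⟨m, hm⟩ : ∃ m : ZMod (2 * 2 ^ (n + 1)), m + m = ((2 ^ (n + 1) : ℕ) : ZMod (2 * 2 ^ (n + 1))) :=
    ⟨((2 ^ n : ℕ) : ZMod (2 * 2 ^ (n + 1))), by rw [← Nat.cast_add]; congr 1; ring⟩
  -- the elements
  set i : Q (n + 1) := a m with hi
  set j : Q (n + 1) := xa 0 with hj
  set zz : Q (n + 1) := z (n + 1) with hzz
  have zc : ∀ g : Q (n + 1), zz * g = g * zz := z_comm
  have z2 : zz * zz = 1 := z_mul_z
  have zne : zz ≠ 1 := z_ne_one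
  have hii : i * i = zz := by rw [hi, a_mul_a, hm, hzz, z]
  have hjj : j * j = zz := xa_sq 0
  have hij : i * j = zz * (j * i) := by
    rw [hi, hj, a_mul_xa, xa_mul_a, hzz, z, a_mul_xa]
    congr 1
    linear_combination -hm
  have hjne : ∀ t : ZMod (2 * 2 ^ (n + 1)), (xa t : Q (n + 1)) ≠ 1 ∧ (xa t : Q (n + 1)) ≠ zz := by
    intro t
    refine ⟨fun h => ?_, fun h => ?_⟩
    · rw [one_def] at h
      cases h
    · rw [hzz, z] at h
      cases h
  have zl : ∀ g g' : Q (n + 1), g * (zz * g') = zz * (g * g') := by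
    intro g g'
    rw [← mul_assoc, ← zc, mul_assoc]
  obtain ⟨l, hl⟩ : ∃ l : Q (n + 1), l = i * j := ⟨_, rfl⟩
  have hji : j * i = zz * l := by rw [hl, hij, ← mul_assoc, z2, one_mul]
  have hjl : j * l = i := by
    rw [hl, ← mul_assoc, hji, hl, mul_assoc, mul_assoc, hjj, ← zc, ← mul_assoc, z2, one_mul]
  have hlj : l * j = zz * i := by rw [hl, mul_assoc, hjj, zc]
  have hll : l * l = zz := by
    nth_rewrite 1 [hl]
    rw [mul_assoc, hjl, hii]
  have hil : i * l = zz * j := by rw [hl, ← mul_assoc, hii]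
  have hli : l * i = j := by
    rw [hl, mul_assoc, hji, zl, hil, ← mul_assoc, z2, one_mul]
  obtain ⟨c1, c2, c3, c4⟩ : (∀ g : Q (n + 1), g * i = i * g → g * j = j * g → g = 1 ∨ g = zz) ∧
    (∀ g : Q (n + 1), g * i = i * g → g * j = zz * (j * g) → g = i ∨ g = zz * i) ∧
    (∀ g : Q (n + 1), g * i = zz * (i * g) → g * j = j * g → g = j ∨ g = zz * j) ∧
    (∀ g : Q (n + 1), g * i = zz * (i * g) → g * j = zz * (j * g) → g = l ∨ g = zz * l) := by
    rw [hl]
    exact ⟨fun g => (cls hm).1, fun g => (cls hm).2.1, fun g => (cls hm).2.2.1, fun g => (cls hm).2.2.2⟩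
  have hno : ∀ g : Q (n + 1), g * j ≠ i * g ∧ g * j ≠ zz * (i * g) := by
    intro g
    rw [hi, hj, hzz, z]
    rcases g with t | t
    · refine ⟨fun h => ?_, fun h => ?_⟩
      · rw [a_mul_xa, a_mul_a] at h; cases h
      · rw [a_mul_xa, a_mul_a, a_mul_a] at h; cases h
    · refine ⟨fun h => ?_, fun h => ?_⟩
      · rw [xa_mul_xa, a_mul_xa] at h; cases h
      · rw [xa_mul_xa, a_mul_xa, a_mul_xa] at h; cases h
  have hlx : ∃ t, l = xa t := ⟨_, by rw [hl, hi, hj, a_mul_xa]⟩
  have fz : ∀ a b, f (zz * a) (zz * b) = f a b := by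
    intro a b
    rw [← h.f_mul, h.f_zz, one_mul]
  -- the generators
  set p := f i j with hp
  set q := f j l with hq
  set w := f zz 1 with hw
  have hw' : f 1 zz = w := by rw [hw, ← fz zz 1, z2, mul_one]
  have hww : w * w = 1 := by rw [hw, h.f_mul, z2, one_mul, h.f_one]
  have hpp : p * p = 1 := by rw [hp, h.f_mul, hii, hjj, h.f_zz]
  have hqq : q * q = 1 := by rw [hq, h.f_mul, hjj, hll, h.f_zz]
  have hpq' : p * q = f l i := by rw [hp, hq, h.f_mul, hjl, ← hl]
  have hpq : p * q = q * p := by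
    rw [hpq', hp, hq, h.f_mul, hji, hlj, fz]
  have hwf : ∀ a b, w * f a b = f (zz * a) b := by
    intro a b
    rw [hw, h.f_mul, one_mul]
  have hfw : ∀ a b, f a b * w = f (zz * a) b := by
    intro a b
    rw [hw, h.f_mul, mul_one, zc]
  have hfz : ∀ a b, f a (zz * b) = w * f a b := by
    intro a b
    rw [← hw', h.f_mul, one_mul]
  have one_ne : (1 : Q (n + 1)) ≠ zz := fun h => zne h.symm
  have hp1 : p ≠ 1 := by
    rw [← h.f_one, hp]
    intro h1
    rcases h.f_inj _ _ _ _ h1 with ⟨-, h2⟩ | ⟨-, h2⟩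
    · exact (hjne 0).1 h2
    · rw [mul_one] at h2
      exact (hjne 0).2 h2
  have hq1 : q ≠ 1 := by
    rw [← h.f_one, hq]
    intro h1
    rcases h.f_inj _ _ _ _ h1 with ⟨h2, -⟩ | ⟨h2, -⟩
    · exact (hjne 0).1 h2
    · rw [mul_one] at h2
      exact (hjne 0).2 h2
  have hpne : p ≠ q := by
    intro h1
    have h2 : p * q = 1 := by rw [h1, hqq]
    rw [hpq', ← h.f_one] at h2
    obtain ⟨t, ht⟩ := hlx
    rcases h.f_inj _ _ _ _ h2 with ⟨h2, -⟩ | ⟨h2, -⟩
    · exact (hjne t).1 (ht ▸ h2)
    · rw [mul_one] at h2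
      exact (hjne t).2 (ht ▸ h2)
  -- the subgroup
  let E : Subgroup G := (P : Subgroup G) ⊓ centralizer ({p, q} : Set G)
  have hmf : ∀ a b, f a b ∈ (P : Subgroup G) := fun a b => (h.mem_iff _).2 (Or.inl ⟨a, b, rfl⟩)
  have hE : ∀ g, g ∈ E ↔ g ∈ (P : Subgroup G) ∧ g * p = p * g ∧ g * q = q * g := by
    intro g
    rw [mem_inf, mem_centralizer_iff]
    constructor
    · rintro ⟨h1, h2⟩
      exact ⟨h1, (h2 p (Or.inl rfl)).symm, (h2 q (Or.inr rfl)).symm⟩
    · rintro ⟨h1, h2, h3⟩
      refine ⟨h1, ?_⟩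
      rintro x (rfl | hx)
      · exact h2.symm
      · rw [Set.mem_singleton_iff] at hx
        rw [hx]
        exact h3.symm
  have hpE : p ∈ E := (hE p).2 ⟨hmf _ _, rfl, hpq⟩
  have hqE : q ∈ E := (hE q).2 ⟨hmf _ _, hpq.symm, rfl⟩
  have hwc : ∀ a b, w * f a b = f a b * w := by
    intro a b
    rw [hwf, hfw]
  have hwE : w ∈ E := (hE w).2 ⟨hmf _ _, hwc _ _, hwc _ _⟩
  let V := H284.RankFix.four p q hpp hqq hpq
  have hVE : V ≤ E := by
    rintro x (rfl | rfl | rfl | rfl)
    · exact E.one_mem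
    · exact hpE
    · exact hqE
    · exact E.mul_mem hpE hqE
  have hcV : Nat.card ↥V = 4 := H284.RankFix.card_four hpp hqq hpq hp1 hq1 hpne
  have key : ∀ g ∈ E, ∃ v ∈ V, g = v ∨ g = w * v := by
    intro g hg
    obtain ⟨h1, h2, h3⟩ := (hE g).1 hg
    rcases (h.mem_iff g).1 h1 with ⟨a, b, rfl⟩ | ⟨a, b, rfl⟩
    · rw [hp, h.f_mul, h.f_mul] at h2
      rw [hq, h.f_mul, h.f_mul] at h3
      rcases h.f_inj _ _ _ _ h2 with ⟨a1, b1⟩ | ⟨a1, b1⟩
      · rcases h.f_inj _ _ _ _ h3 with ⟨a2, b2⟩ | ⟨a2, b2⟩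
        · have b3 : b * i = i * b := by rw [← hjl, ← mul_assoc, b1, mul_assoc, b2, mul_assoc]
          refine ⟨1, V.one_mem, ?_⟩
          rcases c1 a a1 a2 with rfl | rfl <;> rcases c1 b b3 b1 with rfl | rfl
          · left; exact h.f_one
          · right; rw [hw', mul_one]
          · right; rw [mul_one]
          · left; exact h.f_zz
        · have b3 : b * i = zz * (i * b) := by
            rw [← hjl, ← mul_assoc, b1, mul_assoc, b2, zl, mul_assoc]
          refine ⟨p, Or.inr (Or.inl rfl), ?_⟩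
          rcases c2 a a1 a2 with rfl | rfl <;> rcases c3 b b3 b1 with rfl | rfl
          · left; rfl
          · right; rw [hfz]
          · right; rw [← hwf]
          · left; rw [fz]
      · rcases h.f_inj _ _ _ _ h3 with ⟨a2, b2⟩ | ⟨a2, b2⟩
        · have b3 : b * i = zz * (i * b) := by
            rw [← hjl, ← mul_assoc, b1, mul_assoc zz, mul_assoc j b, b2, mul_assoc j l]
          refine ⟨q, Or.inr (Or.inr (Or.inl rfl)), ?_⟩
          rcases c3 a a1 a2 with rfl | rfl <;> rcases c4 b b3 b1 with rfl | rfl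
          · left; rfl
          · right; rw [hfz]
          · right; rw [← hwf]
          · left; rw [fz]
        · have b3 : b * i = i * b := by
            rw [← hjl, ← mul_assoc, b1, mul_assoc zz, mul_assoc j b, b2, zl, ← mul_assoc zz zz, z2, one_mul, mul_assoc]
          refine ⟨p * q, Or.inr (Or.inr (Or.inr rfl)), ?_⟩
          rw [hpq']
          rcases c4 a a1 a2 with rfl | rfl <;> rcases c2 b b3 b1 with rfl | rfl
          · left; rfl
          · right; rw [hfz]
          · right; rw [← hwf]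
          · left; rw [fz]
    · exfalso
      rw [hp, mul_assoc, h.s_f, ← mul_assoc, ← mul_assoc, h.f_mul, h.f_mul] at h2
      rcases h.f_inj _ _ _ _ (mul_right_cancel h2) with ⟨a1, -⟩ | ⟨a1, -⟩
      · exact (hno a).1 a1
      · exact (hno a).2 a1
  have hwV : ∀ v ∈ V, w * v = v * w := by
    rintro v (rfl | rfl | rfl | rfl)
    · rw [mul_one, one_mul]
    · exact hwc _ _
    · exact hwc _ _
    · rw [hpq', hwc]
  have hVc : ∀ a ∈ V, ∀ b ∈ V, a * b = b * a := H284.RankFix.comm_four
  have hV2 : ∀ a ∈ V, a * a = 1 := H284.RankFix.sq_four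
  have hwc2 : ∀ a ∈ V, ∀ b ∈ V, w * a * b = b * (w * a) := by
    intro a ha b hb
    rw [mul_assoc, hVc a ha b hb, ← mul_assoc, hwV b hb, mul_assoc]
  have hEc : ∀ a ∈ E, ∀ b ∈ E, a * b = b * a := by
    intro a ha b hb
    obtain ⟨v, hv, rfl | rfl⟩ := key a ha <;> obtain ⟨u, hu, rfl | rfl⟩ := key b hb
    · exact hVc _ hv _ hu
    · exact (hwc2 u hu _ hv).symm
    · exact hwc2 v hv _ hu
    · have e1 : Commute w u := hwV u hu
      have e2 : Commute w v := hwV v hv
      have e3 : Commute v u := hVc v hv u hu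
      exact ((Commute.refl w).mul_right e1).mul_left (e2.symm.mul_right e3)
  have hE2 : ∀ a ∈ E, a * a = 1 := by
    intro a ha
    obtain ⟨v, hv, rfl | rfl⟩ := key a ha
    · exact hV2 _ hv
    · rw [← mul_assoc, mul_assoc w v w, ← hwV v hv, ← mul_assoc w w v, hww, one_mul, hV2 v hv]
  have hwnV : w ∉ V := by
    rintro (h1 | h1 | h1 | h1)
    · rw [← h.f_one] at h1
      rcases h.f_inj _ _ _ _ h1 with ⟨h2, -⟩ | ⟨-, h2⟩
      · exact zne h2
      · rw [mul_one] at h2
        exact one_ne h2
    · rcases h.f_inj _ _ _ _ h1 with ⟨-, h2⟩ | ⟨-, h2⟩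
      · exact (hjne 0).1 h2.symm
      · have h3 : zz = j := by
          rw [← hzz] at h2
          have h4 := congrArg (fun t => zz * t) h2
          simp only [mul_one, ← mul_assoc, z2, one_mul] at h4
          exact h4
        exact (hjne 0).2 h3.symm
    · rcases h.f_inj _ _ _ _ h1 with ⟨h2, -⟩ | ⟨h2, -⟩
      · exact (hjne 0).2 h2.symm
      · have h3 : (1 : Q (n + 1)) = j := by
          rw [← hzz] at h2
          have h4 := congrArg (fun t => zz * t) h2
          simp only [← mul_assoc, z2, one_mul] at h4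
          exact h4
        exact (hjne 0).1 h3.symm
    · rw [hpq'] at h1
      obtain ⟨t, ht⟩ := hlx
      rcases h.f_inj _ _ _ _ h1 with ⟨h2, -⟩ | ⟨h2, -⟩
      · exact (hjne t).2 (ht ▸ h2.symm)
      · have h3 : (1 : Q (n + 1)) = l := by
          rw [← hzz] at h2
          have h4 := congrArg (fun t => zz * t) h2
          simp only [← mul_assoc, z2, one_mul] at h4
          exact h4
        exact (hjne t).1 (ht ▸ h3.symm)
  have hcE : Nat.card ↥E = 8 := by
    have h1 : Nat.card ↥E ≤ Nat.card (Bool × ↥V) := by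
      refine Nat.card_le_card_of_surjective (fun c : Bool × ↥V => (if c.1 then ⟨w * c.2, E.mul_mem hwE (hVE c.2.2)⟩
        else ⟨c.2, hVE c.2.2⟩ : ↥E)) ?_
      rintro ⟨g, hg⟩
      obtain ⟨v, hv, h1 | h1⟩ := key g hg
      · exact ⟨(false, ⟨v, hv⟩), Subtype.ext h1.symm⟩
      · exact ⟨(true, ⟨v, hv⟩), Subtype.ext h1.symm⟩
    rw [Nat.card_prod, hcV, Nat.card_eq_fintype_card (α := Bool), Fintype.card_bool] at h1
    have h2 : 4 ∣ Nat.card ↥E := by
      rw [← hcV]
      exact card_dvd_of_le hVE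
    have h3 : Nat.card ↥E ≠ 4 := by
      intro h3
      have h4 : V = E := Subgroup.eq_of_le_of_card_ge hVE (by rw [h3, hcV])
      exact hwnV (h4 ▸ hwE)
    have h4 : 0 < Nat.card ↥E := Nat.card_pos
    omega
  refine OddHalf.D6.Harada.rank_of_self P E inf_le_left hEc hE2 hcE ?_
  intro g hg hge
  exact (hE g).2 ⟨hg, hge p hpE, hge q hqE⟩

/-- **`PSp₄(q)`, `q` odd, has sectional 2-rank at most four.** -/
theorem rank_psp {F : Type*} [Field F] [Fintype F] (hF : Odd (Fintype.card F)) : SectionalPRankLE 2 4 (PSp 2 F) := by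
  classical
  have P : Sylow 2 (PSp 2 F) := default
  obtain ⟨k, f, s, h⟩ := SylowSp4.Recog.exists_coord hF (P : Subgroup (PSp 2 F)) P ⟨MulEquiv.refl _⟩
  exact rank_of_coord P h

end Cfsg.Agent.H300.RankSp4
end
end
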