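import Mathlib
import Cfsg.Agent.Lib.CoprimeHyperplane
import Cfsg.Agent.Lib.CoprimeStab
import Cfsg.Agent.SignalizersComponents.CoprimeBasic
set_option linter.all false

/-!
# An involution acting on a group of odd order

* `centralizes_of_fixed`: a `2`-group `R` and an involution `t` normalising `R` act on a group `Y` of odd order;
  if the commutators `[r, t]` (`r ∈ R`) centralise `C_Y(t)`, then they centralise `Y`
  (no solvability hypothesis on `Y`).
-/

set_option autoImplicit false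

namespace Cfsg.Agent.H300.CoprimeInv

open Subgroup
open scoped commutatorElement

/-- an element of 2-power order in a group of odd order is trivial -/
theorem eq_one_of_pow_two {V : Type*} [Group V] [Finite V] (hV : Odd (Nat.card V)) {x : V} {k : ℕ}
    (h : x ^ 2 ^ k = 1) : x = 1 := by
  have h1 : orderOf x ∣ 2 ^ k := orderOf_dvd_of_pow_eq_one h
  have h2 : orderOf x ∣ Nat.card V := orderOf_dvd_natCard x
  have h3 : Nat.Coprime (2 ^ k) (Nat.card V) := Nat.Coprime.pow_left k (Nat.coprime_two_left.2 hV)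
  exact orderOf_eq_one_iff.1 (Nat.eq_one_of_dvd_coprimes h3 h1 h2)

/-- the abelian step: if `z = r t r⁻¹ t⁻¹` fixes the fixed points of the involution `t`, then `z = 1` -/
theorem abelian_step {V : Type*} [CommGroup V] [Finite V] (hV : Odd (Nat.card V)) (t r : MulAut V)
    (ht : t * t = 1) {k : ℕ} (hz : (r * t * r⁻¹ * t⁻¹) ^ 2 ^ k = 1)
    (h : ∀ v, t v = v → (r * t * r⁻¹ * t⁻¹) v = v) : ∀ v, (r * t * r⁻¹ * t⁻¹) v = v := by
  have hti : t⁻¹ = t := inv_eq_of_mul_eq_one_right ht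
  obtain ⟨t', ht'⟩ : ∃ t' : MulAut V, t' = r * t * r⁻¹ := ⟨_, rfl⟩
  obtain ⟨z, hzd⟩ : ∃ z : MulAut V, z = r * t * r⁻¹ * t⁻¹ := ⟨_, rfl⟩
  rw [← hzd] at hz h ⊢
  have hzt : z = t' * t := by rw [hzd, ht', hti]
  have htt : ∀ v, t (t v) = v := fun v => by
    have := congrArg (fun f : MulAut V => f v) ht
    simpa using this
  have htt' : ∀ v, t' (t' v) = v := fun v => by
    have h1 : t' * t' = 1 := by rw [ht']; calc
      r * t * r⁻¹ * (r * t * r⁻¹) = r * (t * t) * r⁻¹ := by group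
      _ = 1 := by rw [ht]; group
    have := congrArg (fun f : MulAut V => f v) h1
    simpa using this
  have hzv : ∀ v, z v = t' (t v) := fun v => by rw [hzt]; rfl
  -- fixed points of `t` and `t'` agree
  have hsub : {v : V | t v = v} ⊆ {v : V | t' v = v} := by
    intro v hv
    have h1 := h v hv
    rw [hzv, hv] at h1
    exact h1
  have hcard : ({v : V | t' v = v}).ncard ≤ ({v : V | t v = v}).ncard := by
    have himg : {v : V | t' v = v} = r '' {v : V | t v = v} := by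
      ext v
      simp only [Set.mem_ofPred_eq, Set.mem_image]
      constructor
      · intro hv
        refine ⟨r⁻¹ v, ?_, by simp⟩
        rw [ht'] at hv
        have : r (t (r⁻¹ v)) = v := hv
        apply r.injective
        rw [this]; simp
      · rintro ⟨w, hw, rfl⟩
        rw [ht']
        change r (t (r⁻¹ (r w))) = r w
        have : r⁻¹ (r w) = w := by simp
        rw [this, hw]
    rw [himg]
    exact Set.ncard_image_le (Set.toFinite _)
  have heq : {v : V | t v = v} = {v : V | t' v = v} :=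
    Set.eq_of_subset_of_ncard_le hsub hcard (Set.toFinite _)
  have hfix : ∀ v, t' v = v → z v = v := by
    intro v hv
    have h1 : v ∈ {v : V | t v = v} := by rw [heq]; exact hv
    exact h v h1
  intro v
  obtain ⟨d, hd⟩ : ∃ d, d = z v * v⁻¹ := ⟨_, rfl⟩
  -- `d ^ 2` is fixed by `z`
  have hc : z (v * t v) = v * t v := by
    apply h
    rw [map_mul, htt, mul_comm]
  obtain ⟨i, hi⟩ : ∃ i, i = v * (t v)⁻¹ := ⟨_, rfl⟩
  have hti' : t i = i⁻¹ := by
    rw [hi, map_mul, map_inv, htt, mul_inv_rev, inv_inv]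
  have hzi : z i = (t' i)⁻¹ := by
    rw [hzv, hti', map_inv]
  have hd2 : z ((t' i)⁻¹ * i⁻¹) = (t' i)⁻¹ * i⁻¹ := by
    apply hfix
    rw [map_mul, map_inv, htt', map_inv, mul_comm]
  have hvi : v * v = (v * t v) * i := by rw [hi]; rw [mul_comm v (t v)⁻¹]; group
  have hdd : d * d = (t' i)⁻¹ * i⁻¹ := by
    have h1 : z v * z v = (v * t v) * (t' i)⁻¹ := by
      rw [← map_mul, hvi, map_mul, hc, hzi]
    calc d * d = (z v * z v) * (v * v)⁻¹ := by
          rw [hd, mul_inv_rev]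
          calc z v * v⁻¹ * (z v * v⁻¹) = z v * (v⁻¹ * z v) * v⁻¹ := by group
            _ = z v * (z v * v⁻¹) * v⁻¹ := by rw [mul_comm v⁻¹ (z v)]
            _ = _ := by group
      _ = (v * t v) * (t' i)⁻¹ * ((v * t v) * i)⁻¹ := by rw [h1, ← hvi]
      _ = (t' i)⁻¹ * (v * t v) * (i⁻¹ * (v * t v)⁻¹) := by
          rw [mul_comm (v * t v) (t' i)⁻¹, mul_inv_rev]
      _ = (t' i)⁻¹ * (v * t v) * ((v * t v)⁻¹ * i⁻¹) := by rw [mul_comm i⁻¹]
      _ = (t' i)⁻¹ * i⁻¹ := by group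
  have hzd1 : z d = d := by
    have h1 : (z d * d⁻¹) ^ 2 ^ 1 = 1 := by
      rw [pow_one, pow_two]
      calc z d * d⁻¹ * (z d * d⁻¹) = z d * (d⁻¹ * z d) * d⁻¹ := by group
        _ = z d * (z d * d⁻¹) * d⁻¹ := by rw [mul_comm d⁻¹ (z d)]
        _ = z (d * d) * (d * d)⁻¹ := by rw [map_mul]; group
        _ = 1 := by rw [hdd, hd2]; group
    have h2 := eq_one_of_pow_two hV h1
    exact mul_inv_eq_one.1 h2
  have hpow : ∀ n : ℕ, (z ^ n) v = d ^ n * v := by
    intro n
    induction n with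
    | zero => simp
    | succ n ih =>
      have h1 : z v = d * v := by rw [hd]; group
      have h3 : ∀ m : ℕ, z (d ^ m) = d ^ m := fun m => by rw [map_pow, hzd1]
      rw [pow_succ', MulAut.mul_apply, ih, map_mul, h3, h1, pow_succ, mul_assoc]
  have h1 := hpow (2 ^ k)
  rw [hz] at h1
  have h2 : d ^ 2 ^ k = 1 := by
    have : v = d ^ 2 ^ k * v := h1
    exact (right_eq_mul.1 this)
  have h3 := eq_one_of_pow_two hV h2
  rw [hd] at h3
  exact mul_inv_eq_one.1 h3

variable {G : Type*} [Group G]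

/-- the step in a group: `K ≤ W`, `[W, W] ≤ K` -/
theorem step [Finite G] {K W : Subgroup G} (hKW : K ≤ W) (hWW : ⁅W, W⁆ ≤ K) (hodd : Odd (Nat.card W))
    {t r : G} (ht : t * t = 1) (htK : t ∈ normalizer (K : Set G)) (htW : t ∈ normalizer (W : Set G))
    (hrK : r ∈ normalizer (K : Set G)) (hrW : r ∈ normalizer (W : Set G))
    {k : ℕ} (hz : ⁅r, t⁆ ^ 2 ^ k = 1) (h : ∀ w ∈ W, t * w = w * t → ⁅r, t⁆ * w = w * ⁅r, t⁆) :
    ∀ w ∈ W, ⁅w, ⁅r, t⁆⁆ ∈ K := by
  classical
  have hWK : W ≤ normalizer (K : Set G) := by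
    intro w hw
    refine mem_normalizer_fintype fun x hx => ?_
    have h1 : ⁅w, x⁆ ∈ K := hWW (commutator_mem_commutator hw (hKW hx))
    have h2 : w * x * w⁻¹ = ⁅w, x⁆ * x := by rw [commutatorElement_def]; group
    rw [h2]; exact K.mul_mem h1 hx
  let N : Subgroup G := normalizer (K : Set G) ⊓ normalizer (W : Set G)
  have hWN : W ≤ N := le_inf hWK le_normalizer
  have hKN : K ≤ N := hKW.trans hWN
  have hKn : (K.subgroupOf N).Normal := by
    refine ⟨fun x hx g => ?_⟩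
    rw [mem_subgroupOf] at hx ⊢
    exact ((mem_normalizer_iff.1 g.2.1) _).1 hx
  have hWn : (W.subgroupOf N).Normal := by
    refine ⟨fun x hx g => ?_⟩
    rw [mem_subgroupOf] at hx ⊢
    exact ((mem_normalizer_iff.1 g.2.2) _).1 hx
  let π : N →* N ⧸ (K.subgroupOf N) := QuotientGroup.mk' (K.subgroupOf N)
  have hπ : Function.Surjective π := QuotientGroup.mk'_surjective _
  let V : Subgroup (N ⧸ (K.subgroupOf N)) := (W.subgroupOf N).map π
  have hVn : V.Normal := hWn.map π hπ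
  have hVcomm : ∀ a ∈ V, ∀ b ∈ V, a * b = b * a := by
    rintro _ ⟨a, ha, rfl⟩ _ ⟨b, hb, rfl⟩
    rw [← map_mul, ← map_mul]
    rw [SetLike.mem_coe, mem_subgroupOf] at ha hb
    change (QuotientGroup.mk (a * b) : N ⧸ (K.subgroupOf N)) = QuotientGroup.mk (b * a)
    rw [QuotientGroup.eq, mem_subgroupOf]
    have h1 : ⁅(b : G)⁻¹, (a : G)⁻¹⁆ ∈ K := hWW (commutator_mem_commutator (W.inv_mem hb) (W.inv_mem ha))
    have h2 : (((a * b)⁻¹ * (b * a) : N) : G) = ⁅(b : G)⁻¹, (a : G)⁻¹⁆ := by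
      rw [commutatorElement_def]; push_cast; group
    rw [h2]; exact h1
  let : CommGroup V := { (inferInstance : Group V) with
    mul_comm := fun a b => Subtype.ext (hVcomm a a.2 b b.2) }
  have hVodd : Odd (Nat.card V) := by
    have h1 : Nat.card V ∣ Nat.card (W.subgroupOf N) := card_map_dvd _ _
    have h2 : Nat.card (W.subgroupOf N) = Nat.card W := Nat.card_congr (subgroupOfEquivOfLe hWN).toEquiv
    rw [h2] at h1
    exact hodd.of_dvd_nat h1
  let tN : N := ⟨t, htK, htW⟩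
  let rN : N := ⟨r, hrK, hrW⟩
  let zN : N := ⟨⁅r, t⁆, by
    rw [commutatorElement_def]
    exact N.mul_mem (N.mul_mem (N.mul_mem rN.2 tN.2) (N.inv_mem rN.2)) (N.inv_mem tN.2)⟩
  have hzN : zN = rN * tN * rN⁻¹ * tN⁻¹ := by
    apply Subtype.ext
    change ⁅r, t⁆ = r * t * r⁻¹ * t⁻¹
    rw [commutatorElement_def]
  let φ : (N ⧸ (K.subgroupOf N)) →* MulAut V := MulAut.conjNormal
  have hφz : φ (π zN) = φ (π rN) * φ (π tN) * (φ (π rN))⁻¹ * (φ (π tN))⁻¹ := by
    rw [hzN]; simp only [map_mul, map_inv]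
  have hmain := abelian_step hVodd (φ (π tN)) (φ (π rN))
    (by
      rw [← map_mul, ← map_mul]
      have : tN * tN = 1 := Subtype.ext ht
      rw [this, map_one, map_one])
    (k := k)
    (by
      rw [← hφz, ← map_pow, ← map_pow]
      have : zN ^ 2 ^ k = 1 := Subtype.ext (by push_cast; exact hz)
      rw [this, map_one, map_one])
    (by
      rw [← hφz]
      rintro ⟨_, ⟨w, hw, rfl⟩⟩ hv
      rw [SetLike.mem_coe, mem_subgroupOf] at hw
      have hv1 := congrArg Subtype.val hv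
      rw [MulAut.conjNormal_apply] at hv1
      change π tN * π w * (π tN)⁻¹ = π w at hv1
      rw [← map_mul, ← map_inv, ← map_mul] at hv1
      have hv2 : (w⁻¹ * (tN * w * tN⁻¹)) ∈ K.subgroupOf N := QuotientGroup.eq.1 hv1.symm
      rw [mem_subgroupOf] at hv2
      have hKodd : ¬ 2 ∣ Nat.card K := by
        have h1 := hodd.of_dvd_nat (card_dvd_of_le hKW)
        rw [← even_iff_two_dvd]; exact Nat.not_even_iff_odd.2 h1
      obtain ⟨d, hdK, hd⟩ := Cfsg.Agent.SignalizersComponents.CoprimeBasic.exists_fixed_in_coset_of_pow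
        (p := 2) t 1 (by rw [pow_one, pow_two]; exact ht) K hKodd
        (fun d hd => ((mem_normalizer_iff.1 htK) d).1 hd) (w : G) hv2
      have hdz := h (w * d) (W.mul_mem hw (hKW hdK)) hd
      apply Subtype.ext
      rw [MulAut.conjNormal_apply]
      change π zN * π w * (π zN)⁻¹ = π w
      have hwd : π w = π (w * ⟨d, hKN hdK⟩) := by
        change (QuotientGroup.mk w : N ⧸ (K.subgroupOf N)) = QuotientGroup.mk (w * ⟨d, hKN hdK⟩)
        rw [QuotientGroup.eq, mem_subgroupOf]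
        simpa using hdK
      rw [hwd, ← map_mul, ← map_inv, ← map_mul]
      congr 1
      apply Subtype.ext
      change ⁅r, t⁆ * (w * d) * ⁅r, t⁆⁻¹ = w * d
      rw [hdz]; group)
  rw [← hφz] at hmain
  intro w hw
  have h1 := congrArg Subtype.val (hmain ⟨π ⟨w, hWN hw⟩, ⟨⟨w, hWN hw⟩, by
    rw [SetLike.mem_coe, mem_subgroupOf]; exact hw, rfl⟩⟩)
  rw [MulAut.conjNormal_apply] at h1
  change π zN * π ⟨w, hWN hw⟩ * (π zN)⁻¹ = π ⟨w, hWN hw⟩ at h1
  rw [← map_mul, ← map_inv, ← map_mul] at h1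
  have h2 : ((⟨w, hWN hw⟩ : N)⁻¹ * (zN * ⟨w, hWN hw⟩ * zN⁻¹)) ∈ K.subgroupOf N := QuotientGroup.eq.1 h1.symm
  rw [mem_subgroupOf] at h2
  have h3 : w⁻¹ * (⁅r, t⁆ * w * ⁅r, t⁆⁻¹) ∈ K := h2
  -- conjugate by `w` and invert
  have h4 : w * (w⁻¹ * (⁅r, t⁆ * w * ⁅r, t⁆⁻¹)) * w⁻¹ ∈ K := ((mem_normalizer_iff.1 (hWK hw)) _).1 h3
  have h5 := K.inv_mem h4
  have h6 : (w * (w⁻¹ * (⁅r, t⁆ * w * ⁅r, t⁆⁻¹)) * w⁻¹)⁻¹ = ⁅w, ⁅r, t⁆⁆ := by
    rw [commutatorElement_def w]; group
  rw [h6] at h5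
  exact h5

/-- the `q`-group case -/
theorem pgroup_case [Finite G] {q : ℕ} [Fact q.Prime] (t : G) (ht : t * t = 1) (R : Subgroup G)
    (hR : IsPGroup 2 R) (hRt : ∀ r ∈ R, ⁅r, t⁆ ∈ R) (n : ℕ) : ∀ W : Subgroup G, Nat.card W ≤ n → IsPGroup q W →
    Odd (Nat.card W) → R ⊔ zpowers t ≤ normalizer (W : Set G) →
    (∀ w ∈ W, t * w = w * t → ∀ r ∈ R, ⁅r, t⁆ * w = w * ⁅r, t⁆) →
    ∀ r ∈ R, ∀ w ∈ W, Commute w ⁅r, t⁆ := by
  induction n with
  | zero =>
    intro W hW
    exact absurd (Nat.card_pos (α := W)) (by omega)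
  | succ n ih =>
    intro W hcard hWq hWodd hD h r hr w hw
    by_cases hWb : W = ⊥
    · rw [hWb, mem_bot] at hw; rw [hw]; exact Commute.one_left _
    obtain ⟨K, hKW, hDK, -, hWW⟩ := Cfsg.Agent.Lib.CoprimeStab.exists_agemo_lt (R ⊔ zpowers t) hWq hWb hD
    have hlt : Nat.card K < Nat.card W := by
      refine lt_of_le_of_ne (Nat.le_of_dvd Nat.card_pos (card_dvd_of_le hKW.le)) ?_
      intro he
      exact hKW.ne (Subgroup.eq_of_le_of_card_ge hKW.le he.ge)
    have hKodd : Odd (Nat.card K) := hWodd.of_dvd_nat (card_dvd_of_le hKW.le)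
    have htD : t ∈ R ⊔ zpowers t := (le_sup_right : zpowers t ≤ R ⊔ zpowers t) (mem_zpowers t)
    have hrD : r ∈ R ⊔ zpowers t := (le_sup_left : R ≤ R ⊔ zpowers t) hr
    have hIH : ∀ x ∈ K, Commute x ⁅r, t⁆ := ih K (by omega) (hWq.to_le hKW.le) hKodd hDK
      (fun w hw => h w (hKW.le hw)) r hr
    obtain ⟨k, hk⟩ := hR ⟨⁅r, t⁆, hRt r hr⟩
    have hk' : ⁅r, t⁆ ^ 2 ^ k = 1 := by
      have := congrArg Subtype.val hk
      simpa using this
    have h1 : ⁅w, ⁅r, t⁆⁆ ∈ K := step hKW.le hWW hWodd ht (hDK htD) (hD htD) (hDK hrD) (hD hrD) hk'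
      (fun w hw hwt => h w hw hwt r hr) w hw
    refine Cfsg.Agent.Lib.CoprimeStab.commute_of_commutator_commute (H := K) ?_ h1 (hIH _ h1)
    have h2 : orderOf ⁅r, t⁆ ∣ 2 ^ k := orderOf_dvd_of_pow_eq_one hk'
    exact Nat.Coprime.coprime_dvd_left h2 (Nat.Coprime.pow_left k (Nat.coprime_two_left.2 hKodd))

/-- **A `2`-group `R` and an involution `t` normalising `R` act on `Y` of odd order; if the commutators `[r, t]`
centralise `C_Y(t)`, they centralise `Y`.** -/
theorem centralizes_of_fixed [Finite G] {Y : Subgroup G} (hY : Odd (Nat.card Y)) {t : G} (ht : t * t = 1)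
    {R : Subgroup G} (hR : IsPGroup 2 R) (hRt : ∀ r ∈ R, t * r * t⁻¹ ∈ R)
    (hRY : R ≤ normalizer (Y : Set G)) (htY : t ∈ normalizer (Y : Set G))
    (h : ∀ y ∈ Y, t * y = y * t → ∀ r ∈ R, ⁅r, t⁆ * y = y * ⁅r, t⁆) :
    ∀ r ∈ R, ∀ y ∈ Y, ⁅r, t⁆ * y = y * ⁅r, t⁆ := by
  have hRc : ∀ r ∈ R, ⁅r, t⁆ ∈ R := by
    intro r hr
    rw [commutatorElement_def, mul_assoc, mul_assoc, ← mul_assoc t]
    exact R.mul_mem hr (hRt _ (R.inv_mem hr))
  have htR : t ∈ normalizer (R : Set G) := mem_normalizer_fintype fun x hx => hRt x hx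
  have htp : IsPGroup 2 (zpowers t) := by
    apply IsPGroup.of_card (n := (orderOf t).factorization 2)
    rw [Nat.card_zpowers]
    have h1 : orderOf t ∣ 2 ^ 1 := orderOf_dvd_of_pow_eq_one (by rw [pow_one, pow_two]; exact ht)
    obtain ⟨m, -, hm⟩ := (Nat.dvd_prime_pow Nat.prime_two).1 h1
    rw [hm]; simp [Nat.prime_two.factorization]
  have hD2 : IsPGroup 2 (R ⊔ zpowers t : Subgroup G) :=
    hR.to_sup_of_normal_left' htp (by rw [zpowers_le]; exact htR)
  have hDY : R ⊔ zpowers t ≤ normalizer (Y : Set G) := sup_le hRY (by rw [zpowers_le]; exact htY)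
  have h2Y : ¬ 2 ∣ Nat.card Y := by rw [← even_iff_two_dvd]; exact Nat.not_even_iff_odd.2 hY
  intro r hr
  -- the centraliser in `Y`
  let E : Subgroup G := Y ⊓ centralizer {⁅r, t⁆}
  have hE : E.relIndex Y = 1 := by
    by_contra hne
    obtain ⟨q, hq, hqd⟩ := Nat.exists_prime_and_dvd hne
    have : Fact q.Prime := ⟨hq⟩
    obtain ⟨P, hP⟩ := Cfsg.Agent.Lib.CoprimeHyperplane.exists_invariant_sylow hD2 hDY h2Y q
    let W : Subgroup G := (P : Subgroup Y).map Y.subtype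
    have hWY : W ≤ Y := map_subtype_le _
    have hWq : IsPGroup q W := P.isPGroup'.map _
    have hWodd : Odd (Nat.card W) := hY.of_dvd_nat (card_dvd_of_le hWY)
    have hcent := pgroup_case (q := q) t ht R hR hRc (Nat.card W) W le_rfl hWq hWodd hP
      (fun w hw => h w (hWY hw)) r hr
    have hWE : W ≤ E := le_inf hWY fun w hw => mem_centralizer_singleton_iff.2 (hcent w hw)
    have h1 : E.relIndex Y ∣ W.relIndex Y := relIndex_dvd_of_le_left Y hWE
    have h2 : W.relIndex Y = (P : Subgroup Y).index := by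
      rw [relIndex]
      congr 1
      exact comap_map_eq_self_of_injective (subtype_injective Y) _
    rw [h2] at h1
    exact P.not_dvd_index (hqd.trans h1)
  have hYE : Y ≤ E := relIndex_eq_one.1 hE
  intro y hy
  exact (mem_centralizer_singleton_iff.1 (hYE hy).2).symm

end Cfsg.Agent.H300.CoprimeInv
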