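import Mathlib
import Cfsg.Prelude.Def_Local
import Cfsg.Agent.H300.CoprimeInv
import Cfsg.Agent.SignalizersComponents.StandardTrichotomy
import Cfsg.Agent.ClassificationK.PCompTransport
import Cfsg.Agent.Lib.PComponents
import Cfsg.Agent.CpQuot.Quo
import Cfsg.Agent.S1347
set_option linter.all false

/-!
# Standard subgroups and the odd core

* `le_centralizer_oddCore`: `A` standard with cyclic-Sylow centralizer, `t ∈ C(A)` an involution and `R ≤ G` a
  `t`-invariant 2-subgroup with `1 ≠ [R, t] ≤ A`: then `A` centralizes `O(G)`.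
* `isStandard_map`: a standard subgroup `A` of even order centralizing `O(G)` is standard modulo `O(G)`.
* `layer_normalClosure`: the normal closure of `A` is then its own layer.
-/

set_option autoImplicit false

namespace Cfsg.Agent.H300.StdOdd

open Subgroup Cfsg
open scoped commutatorElement

variable {G : Type*} [Group G]

theorem odd_oddCore [Finite G] : Odd (Nat.card (oddCore G)) :=
  Nat.coprime_two_right.1 (Cfsg.Agent.Lib.Cores.pPrimeCore_coprime (G := G) 2)

/-- commuting involutions of a group with cyclic Sylow 2-subgroups agree -/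
theorem eq_of_cyclic {C : Type*} [Group C] [Finite C] (hcyc : ∀ P : Sylow 2 C, IsCyclic ↥(P : Subgroup C))
    {z t : C} (hz : z * z = 1) (ht : t * t = 1) (hz1 : z ≠ 1) (ht1 : t ≠ 1) (hzt : z * t = t * z) : z = t := by
  classical
  have hp : ∀ x : C, x * x = 1 → IsPGroup 2 (zpowers x) := by
    intro x hx
    have h1 : orderOf x ∣ 2 ^ 1 := orderOf_dvd_of_pow_eq_one (by rw [pow_one, pow_two]; exact hx)
    obtain ⟨m, -, hm⟩ := (Nat.dvd_prime_pow Nat.prime_two).1 h1
    exact IsPGroup.of_card (n := m) (by rw [Nat.card_zpowers, hm])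
  have hn : zpowers t ≤ normalizer ((zpowers z : Subgroup C) : Set C) := by
    rw [zpowers_le]
    refine mem_normalizer_fintype fun x hx => ?_
    obtain ⟨k, rfl⟩ := mem_zpowers_iff.1 hx
    have h1 : t * z ^ k * t⁻¹ = z ^ k := by
      rw [← conj_zpow, ← hzt]; simp
    rw [h1]; exact zpow_mem (mem_zpowers z) k
  have hH : IsPGroup 2 (zpowers z ⊔ zpowers t : Subgroup C) := (hp z hz).to_sup_of_normal_left' (hp t ht) hn
  obtain ⟨P, hP⟩ := hH.exists_le_sylow
  have hzP : z ∈ (P : Subgroup C) := hP ((le_sup_left : zpowers z ≤ _) (mem_zpowers z))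
  have htP : t ∈ (P : Subgroup C) := hP ((le_sup_right : zpowers t ≤ _) (mem_zpowers t))
  have := hcyc P
  have := Fintype.ofFinite (P : Subgroup C)
  have hc := IsCyclic.card_pow_eq_one_le (α := (P : Subgroup C)) (n := 2) (by norm_num)
  by_contra hne
  have h3 : ({1, ⟨z, hzP⟩, ⟨t, htP⟩} : Finset (P : Subgroup C)) ⊆
      Finset.univ.filter (fun a => a ^ 2 = 1) := by
    intro x hx
    simp only [Finset.mem_insert, Finset.mem_singleton] at hx
    rw [Finset.mem_filter]
    refine ⟨Finset.mem_univ _, ?_⟩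
    rcases hx with rfl | rfl | rfl
    · simp
    · exact Subtype.ext (by push_cast; rw [pow_two]; exact hz)
    · exact Subtype.ext (by push_cast; rw [pow_two]; exact ht)
  have h4 : ({1, ⟨z, hzP⟩, ⟨t, htP⟩} : Finset (P : Subgroup C)).card = 3 := by
    rw [Finset.card_eq_three]
    refine ⟨1, ⟨z, hzP⟩, ⟨t, htP⟩, ?_, ?_, ?_, rfl⟩
    · intro h; exact hz1 (congrArg Subtype.val h).symm
    · intro h; exact ht1 (congrArg Subtype.val h).symm
    · intro h; exact hne (congrArg Subtype.val h)
  have h5 := Finset.card_le_card h3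
  omega

theorem mul_self_of_orderOf {t : G} (ht : orderOf t = 2) : t * t = 1 := by
  rw [← pow_two, ← ht]; exact pow_orderOf_eq_one t

theorem ne_one_of_orderOf {t : G} (ht : orderOf t = 2) : t ≠ 1 := by
  rintro rfl; rw [orderOf_one] at ht; norm_num at ht

/-- if all `[r, t]` are trivial then `[R, ⟨t⟩] = 1` -/
theorem commutator_eq_bot {R : Subgroup G} {t : G} (h : ∀ r ∈ R, ⁅r, t⁆ = 1) : ⁅R, zpowers t⁆ = ⊥ := by
  rw [commutator_eq_bot_iff_le_centralizer]
  intro r hr
  rw [mem_centralizer_iff]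
  intro x hx
  obtain ⟨k, rfl⟩ := mem_zpowers_iff.1 hx
  have h1 : Commute r t := commutatorElement_eq_one_iff_commute.1 (h r hr)
  exact (h1.zpow_right k).symm

section

variable [Finite G] {A : Subgroup G} (hA : IsStandardSubgroup A)
  {t : G} (ht : orderOf t = 2) (htA : t ∈ centralizer (A : Set G))
  {R : Subgroup G} (hR2 : IsPGroup 2 ↥R) (hRt : ∀ r ∈ R, t * r * t⁻¹ ∈ R)
  (hc1 : ⁅R, zpowers t⁆ ≠ ⊥) (hc2 : ⁅R, zpowers t⁆ ≤ A)

include hRt in
omit [Finite G] in
theorem comm_mem (r : G) (hr : r ∈ R) : ⁅r, t⁆ ∈ R := by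
  rw [commutatorElement_def, mul_assoc, mul_assoc, ← mul_assoc t]
  exact R.mul_mem hr (hRt _ (R.inv_mem hr))

include hc1 in
omit [Finite G] in
theorem exists_ne : ∃ r ∈ R, ⁅r, t⁆ ≠ 1 := by
  by_contra hcon
  push Not at hcon
  exact hc1 (commutator_eq_bot hcon)

include hR2 hRt in
theorem eq_one_of_mem_oddCore {r : G} (hr : r ∈ R) (h : ⁅r, t⁆ ∈ oddCore G) : ⁅r, t⁆ = 1 := by
  obtain ⟨k, hk⟩ := hR2 ⟨⁅r, t⁆, comm_mem hRt r hr⟩
  have hk' : ⁅r, t⁆ ^ 2 ^ k = 1 := by
    have := congrArg Subtype.val hk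
    simpa using this
  have h1 := CoprimeInv.eq_one_of_pow_two (V := oddCore G) odd_oddCore (x := ⟨⁅r, t⁆, h⟩) (k := k)
    (Subtype.ext (by push_cast; exact hk'))
  exact congrArg Subtype.val h1

include hA ht htA hR2 hRt hc1 hc2 in
/-- **`A` centralizes `O(G)`** -/
theorem le_centralizer_oddCore
    (hcyc : ∀ P : Sylow 2 ↥(centralizer (A : Set G)), IsCyclic ↥(P : Subgroup ↥(centralizer (A : Set G)))) :
    A ≤ centralizer (oddCore G : Set G) := by
  have htt := mul_self_of_orderOf ht
  have hN := SignalizersComponents.StandardTrichotomy.centralizer_involution_le hA ht htA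
  have hYn : (oddCore G).Normal := Lib.Cores.pPrimeCore_normal 2
  have hperf : Group.IsPerfect A := hA.1.1
  obtain ⟨r₀, hr₀, hne₀⟩ := exists_ne hc1
  have hzA : ∀ r ∈ R, ⁅r, t⁆ ∈ A := fun r hr => hc2 (commutator_mem_commutator hr (mem_zpowers t))
  -- `A ∩ O(G)` is central in `A`
  have hAY : A ⊓ oddCore G ≤ centralizer (A : Set G) := by
    have hn : ((oddCore G).subgroupOf A).Normal := hYn.subgroupOf A
    rcases SignalizersComponents.Components.quasisimple_normal hA.1 _ hn with h | h
    · exfalso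
      have h1 : A ≤ oddCore G := subgroupOf_eq_top.1 h
      exact hne₀ (eq_one_of_mem_oddCore hR2 hRt hr₀ (h1 (hzA r₀ hr₀)))
    · intro x hx
      have h1 : (⟨x, hx.1⟩ : A) ∈ center A := h (by rw [mem_subgroupOf]; exact hx.2)
      rw [mem_centralizer_iff]
      intro a ha
      exact congrArg Subtype.val (mem_center_iff.1 h1 ⟨a, ha⟩)
  -- `A` centralizes `C_Y(t)`
  have hfix : ∀ y ∈ oddCore G, t * y = y * t → ∀ a ∈ A, a * y = y * a := by
    have h1 : ⁅oddCore G ⊓ centralizer ({t} : Set G), A⁆ ≤ A ⊓ oddCore G := by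
      rw [commutator_le]
      intro y hy a ha
      refine ⟨?_, ?_⟩
      · rw [commutatorElement_def]
        exact A.mul_mem ((mem_normalizer_iff.1 (hN hy.2) a).1 ha) (A.inv_mem ha)
      · rw [commutatorElement_def, mul_assoc, mul_assoc, ← mul_assoc a]
        exact (oddCore G).mul_mem hy.1 (hYn.conj_mem _ ((oddCore G).inv_mem hy.1) a)
    have h2 : ⁅⁅oddCore G ⊓ centralizer ({t} : Set G), A⁆, A⁆ = ⊥ := by
      rw [commutator_eq_bot_iff_le_centralizer]
      exact h1.trans hAY
    have h3 := SignalizersComponents.Components.commutator_eq_bot_of_commutator_commutator_eq_bot hperf h2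
    rw [commutator_eq_bot_iff_le_centralizer] at h3
    intro y hy hty a ha
    have h4 := h3 ⟨hy, mem_centralizer_singleton_iff.2 hty.symm⟩
    exact (mem_centralizer_iff.1 h4) a ha
  have hcent := CoprimeInv.centralizes_of_fixed (Y := oddCore G) odd_oddCore htt hR2 hRt
    (by rw [normalizer_eq_top]; exact le_top) (by rw [normalizer_eq_top]; exact mem_top _)
    (fun y hy hty r hr => hfix y hy hty _ (hzA r hr))
  have hCn : (centralizer (oddCore G : Set G)).Normal := inferInstance
  rcases SignalizersComponents.Components.quasisimple_normal hA.1 _ (hCn.subgroupOf A) with h | h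
  · exact subgroupOf_eq_top.1 h
  · exfalso
    have hzC : ∀ a ∈ A, a * ⁅r₀, t⁆ = ⁅r₀, t⁆ * a := by
      intro a ha
      have h1 : (⟨⁅r₀, t⁆, hzA r₀ hr₀⟩ : A) ∈ center A := h (by
        rw [mem_subgroupOf, mem_centralizer_iff]
        intro y hy
        exact (hcent r₀ hr₀ y hy).symm)
      exact congrArg Subtype.val (mem_center_iff.1 h1 ⟨a, ha⟩)
    have hzcent : ⁅r₀, t⁆ ∈ centralizer (A : Set G) := mem_centralizer_iff.2 hzC
    have hzt : ⁅r₀, t⁆ * t = t * ⁅r₀, t⁆ := (mem_centralizer_iff.1 htA) _ (hzA r₀ hr₀)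
    have hti : t⁻¹ = t := inv_eq_of_mul_eq_one_right htt
    have hz' : r₀ * t * r₀⁻¹ = ⁅r₀, t⁆ * t := by
      rw [commutatorElement_def]; group
    have hzz : ⁅r₀, t⁆ * ⁅r₀, t⁆ = 1 := by
      have h1 : (r₀ * t * r₀⁻¹) * (r₀ * t * r₀⁻¹) = 1 := by
        calc (r₀ * t * r₀⁻¹) * (r₀ * t * r₀⁻¹) = r₀ * (t * t) * r₀⁻¹ := by group
          _ = 1 := by rw [htt]; group
      rw [hz'] at h1
      calc ⁅r₀, t⁆ * ⁅r₀, t⁆ = ⁅r₀, t⁆ * (⁅r₀, t⁆ * t) * t⁻¹ := by group
        _ = ⁅r₀, t⁆ * (t * ⁅r₀, t⁆) * t⁻¹ := by rw [hzt]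
        _ = (⁅r₀, t⁆ * t * (⁅r₀, t⁆ * t)) * t⁻¹ * t⁻¹ := by group
        _ = 1 := by rw [h1, hti, one_mul, htt]
    have heq := eq_of_cyclic hcyc (z := ⟨⁅r₀, t⁆, hzcent⟩) (t := ⟨t, htA⟩) (Subtype.ext hzz) (Subtype.ext htt)
      (fun h => hne₀ (congrArg Subtype.val h)) (fun h => ne_one_of_orderOf ht (congrArg Subtype.val h))
      (Subtype.ext hzt)
    have heq' : ⁅r₀, t⁆ = t := congrArg Subtype.val heq
    rw [heq', htt] at hz'
    apply ne_one_of_orderOf ht
    calc t = r₀⁻¹ * (r₀ * t * r₀⁻¹) * r₀ := by group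
      _ = 1 := by rw [hz']; group

end

section Quot

variable [Finite G] {A : Subgroup G} (hA : IsStandardSubgroup A)
  (hAY : A ≤ centralizer (oddCore G : Set G)) (hAe : ¬ A ≤ oddCore G)

include hA hAY in
omit [Finite G] in
theorem comap_centralizer :
    (centralizer ((A.map (QuotientGroup.mk' (oddCore G)) : Subgroup (G ⧸ oddCore G)) : Set (G ⧸ oddCore G))).comap
      (QuotientGroup.mk' (oddCore G)) = centralizer (A : Set G) := by
  have hYn : (oddCore G).Normal := Lib.Cores.pPrimeCore_normal 2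
  have hperf : Group.IsPerfect A := hA.1.1
  apply le_antisymm
  · have h1 := (Lib.Cores.commutator_le_iff_le_comap_centralizer (X := oddCore G)
      ((centralizer ((A.map (QuotientGroup.mk' (oddCore G)) : Subgroup (G ⧸ oddCore G)) :
        Set (G ⧸ oddCore G))).comap (QuotientGroup.mk' (oddCore G))) A).2 le_rfl
    have h2 : ⁅⁅(centralizer ((A.map (QuotientGroup.mk' (oddCore G)) : Subgroup (G ⧸ oddCore G)) :
        Set (G ⧸ oddCore G))).comap (QuotientGroup.mk' (oddCore G)), A⁆, A⁆ = ⊥ := by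
      rw [commutator_eq_bot_iff_le_centralizer]
      exact h1.trans (le_centralizer_iff.1 hAY)
    have h3 := SignalizersComponents.Components.commutator_eq_bot_of_commutator_commutator_eq_bot hperf h2
    rwa [commutator_eq_bot_iff_le_centralizer] at h3
  · refine (Lib.Cores.commutator_le_iff_le_comap_centralizer (X := oddCore G) _ A).1 ?_
    have : ⁅centralizer (A : Set G), A⁆ = ⊥ := by
      rw [commutator_eq_bot_iff_le_centralizer]
    rw [this]; exact bot_le

include hA hAY in
theorem mem_normalizer_of_map {g : G}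
    (hg : QuotientGroup.mk' (oddCore G) g ∈ normalizer ((A.map (QuotientGroup.mk' (oddCore G)) :
      Subgroup (G ⧸ oddCore G)) : Set (G ⧸ oddCore G))) : g ∈ normalizer (A : Set G) := by
  have hYn : (oddCore G).Normal := Lib.Cores.pPrimeCore_normal 2
  have hCn : (centralizer (oddCore G : Set G)).Normal := inferInstance
  have hperf : ⁅A, A⁆ = A := Subgroup.isPerfect_iff.mp hA.1.1
  -- elements of `A ^ g`
  have hdec : ∀ a ∈ A, ∃ b ∈ A, ∃ y ∈ oddCore G, g * a * g⁻¹ = b * y ∧ ∀ x ∈ oddCore G, y * x = x * y := by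
    intro a ha
    have h1 : QuotientGroup.mk' (oddCore G) (g * a * g⁻¹) ∈ A.map (QuotientGroup.mk' (oddCore G)) := by
      rw [map_mul, map_mul, map_inv]
      exact (mem_normalizer_iff.1 hg _).1 ⟨a, ha, rfl⟩
    obtain ⟨b, hb, hbe⟩ := h1
    have h2 : b⁻¹ * (g * a * g⁻¹) ∈ oddCore G := QuotientGroup.eq.1 hbe
    refine ⟨b, hb, _, h2, by group, ?_⟩
    intro x hx
    have h3 : b⁻¹ * (g * a * g⁻¹) ∈ centralizer (oddCore G : Set G) :=
      (centralizer (oddCore G : Set G)).mul_mem ((centralizer (oddCore G : Set G)).inv_mem (hAY hb))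
        (hCn.conj_mem _ (hAY ha) g)
    exact (mem_centralizer_iff.1 h3 x hx).symm
  have hle : A.map (MulAut.conj g).toMonoidHom ≤ A := by
    have h1 : ⁅A.map (MulAut.conj g).toMonoidHom, A.map (MulAut.conj g).toMonoidHom⁆ ≤ A := by
      rw [commutator_le]
      rintro _ ⟨a₁, ha₁, rfl⟩ _ ⟨a₂, ha₂, rfl⟩
      obtain ⟨b₁, hb₁, y₁, hy₁, e₁, hc₁⟩ := hdec a₁ ha₁
      obtain ⟨b₂, hb₂, y₂, hy₂, e₂, hc₂⟩ := hdec a₂ ha₂
      change ⁅g * a₁ * g⁻¹, g * a₂ * g⁻¹⁆ ∈ A
      rw [e₁, e₂]
      have k1 : Commute b₁ y₁ := ((mem_centralizer_iff.1 (hAY hb₁)) y₁ hy₁).symm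
      have k2 : Commute b₁ y₂ := ((mem_centralizer_iff.1 (hAY hb₁)) y₂ hy₂).symm
      have k3 : Commute b₂ y₁ := ((mem_centralizer_iff.1 (hAY hb₂)) y₁ hy₁).symm
      have k4 : Commute b₂ y₂ := ((mem_centralizer_iff.1 (hAY hb₂)) y₂ hy₂).symm
      have k5 : Commute y₁ y₂ := hc₁ y₂ hy₂
      have : ⁅b₁ * y₁, b₂ * y₂⁆ = ⁅b₁, b₂⁆ := by
        rw [commutatorElement_def, commutatorElement_def]
        have m1 : b₁ * y₁ * (b₂ * y₂) = (b₁ * b₂) * (y₁ * y₂) := by
          rw [mul_assoc, ← mul_assoc y₁, ← k3.eq]; group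
        have m2 : (b₁ * y₁)⁻¹ * (b₂ * y₂)⁻¹ = (y₁ * y₂)⁻¹ * (b₁⁻¹ * b₂⁻¹) := by
          rw [← mul_inv_rev, ← mul_inv_rev, ← mul_inv_rev]
          congr 1
          calc b₂ * y₂ * (b₁ * y₁) = b₂ * (y₂ * b₁) * y₁ := by group
            _ = b₂ * (b₁ * y₂) * y₁ := by rw [k2.eq]
            _ = b₂ * b₁ * (y₂ * y₁) := by group
            _ = b₂ * b₁ * (y₁ * y₂) := by rw [k5.eq]
        calc b₁ * y₁ * (b₂ * y₂) * (b₁ * y₁)⁻¹ * (b₂ * y₂)⁻¹
            = (b₁ * y₁ * (b₂ * y₂)) * ((b₁ * y₁)⁻¹ * (b₂ * y₂)⁻¹) := by group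
          _ = (b₁ * b₂) * (y₁ * y₂) * ((y₁ * y₂)⁻¹ * (b₁⁻¹ * b₂⁻¹)) := by rw [m1, m2]
          _ = b₁ * b₂ * b₁⁻¹ * b₂⁻¹ := by group
      rw [this, commutatorElement_def]
      exact A.mul_mem (A.mul_mem (A.mul_mem hb₁ hb₂) (A.inv_mem hb₁)) (A.inv_mem hb₂)
    rw [← map_commutator, hperf] at h1
    exact h1
  exact mem_normalizer_fintype fun x hx => hle ⟨x, hx, rfl⟩

include hA hAY hAe in
/-- **a standard subgroup centralizing `O(G)` is standard modulo `O(G)`** -/
theorem isStandard_map : IsStandardSubgroup (A.map (QuotientGroup.mk' (oddCore G))) := by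
  have hYn : (oddCore G).Normal := Lib.Cores.pPrimeCore_normal 2
  have hπ : Function.Surjective (QuotientGroup.mk' (oddCore G)) := QuotientGroup.mk'_surjective _
  have hYC : oddCore G ≤ centralizer (A : Set G) := le_centralizer_iff.1 hAY
  have hcomap := comap_centralizer hA hAY
  have hCmap : centralizer ((A.map (QuotientGroup.mk' (oddCore G)) : Subgroup (G ⧸ oddCore G)) : Set (G ⧸ oddCore G)) =
      (centralizer (A : Set G)).map (QuotientGroup.mk' (oddCore G)) := by
    rw [← hcomap, map_comap_eq_self_of_surjective hπ]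
  have hNC : ∀ g : G, QuotientGroup.mk' (oddCore G) g ∈
      normalizer ((centralizer ((A.map (QuotientGroup.mk' (oddCore G)) : Subgroup (G ⧸ oddCore G)) :
        Set (G ⧸ oddCore G)) : Subgroup (G ⧸ oddCore G)) : Set (G ⧸ oddCore G)) ↔
      g ∈ normalizer ((centralizer (A : Set G) : Subgroup G) : Set G) := by
    intro g
    constructor
    · intro h
      refine mem_normalizer_fintype fun x hx => ?_
      rw [SetLike.mem_coe, ← hcomap, mem_comap] at hx ⊢
      rw [map_mul, map_mul, map_inv]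
      exact (mem_normalizer_iff.1 h _).1 hx
    · intro h
      refine mem_normalizer_fintype fun x hx => ?_
      obtain ⟨x, rfl⟩ := hπ x
      have hx' : x ∈ centralizer (A : Set G) := by rw [← hcomap]; exact hx
      have h1 : g * x * g⁻¹ ∈ centralizer (A : Set G) := (mem_normalizer_iff.1 h _).1 hx'
      rw [← hcomap, mem_comap, map_mul, map_mul, map_inv] at h1
      exact h1
  have hmapconj : ∀ (g : G) (B : Subgroup G), (B.map (QuotientGroup.mk' (oddCore G))).map
      (MulAut.conj (QuotientGroup.mk' (oddCore G) g)).toMonoidHom =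
        (B.map (MulAut.conj g).toMonoidHom).map (QuotientGroup.mk' (oddCore G)) := by
    intro g B
    rw [map_map, map_map]
    congr 1
  refine ⟨?_, ⟨?_, ?_⟩, ?_, ?_⟩
  · -- quasisimple
    have hnt : Nontrivial (A.map (QuotientGroup.mk' (oddCore G))) := by
      rw [Subgroup.nontrivial_iff_ne_bot]
      intro h
      apply hAe
      rw [Subgroup.map_eq_bot_iff, QuotientGroup.ker_mk'] at h
      exact h
    exact CpQuot.Quo.quasisimple hA.1 ((QuotientGroup.mk' (oddCore G)).subgroupMap A)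
      ((QuotientGroup.mk' (oddCore G)).subgroupMap_surjective A)
  · -- even order
    rw [hCmap]
    have h1 := hA.2.1.1
    have h2 : Nat.card (centralizer (A : Set G)) =
        Nat.card ((centralizer (A : Set G)).map (QuotientGroup.mk' (oddCore G))) *
          Nat.card ((QuotientGroup.mk' (oddCore G)).subgroupMap (centralizer (A : Set G))).ker := by
      rw [← Subgroup.card_mul_index ((QuotientGroup.mk' (oddCore G)).subgroupMap (centralizer (A : Set G))).ker,
        Subgroup.index_ker, MonoidHom.range_eq_top.2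
          ((QuotientGroup.mk' (oddCore G)).subgroupMap_surjective (centralizer (A : Set G))), mul_comm,
        Subgroup.card_top]
    have h3 : Nat.card ((QuotientGroup.mk' (oddCore G)).subgroupMap (centralizer (A : Set G))).ker ∣
        Nat.card (oddCore G) := by
      refine Subgroup.card_dvd_of_injective
        (((centralizer (A : Set G)).subtype.comp
          ((QuotientGroup.mk' (oddCore G)).subgroupMap (centralizer (A : Set G))).ker.subtype).codRestrict
            (oddCore G) (fun x => ?_)) ?_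
      · have hx := congrArg Subtype.val (MonoidHom.mem_ker.1 x.2)
        exact (QuotientGroup.eq_one_iff _).1 hx
      · intro a b hab
        apply Subtype.ext
        apply Subtype.ext
        exact congrArg (fun z : oddCore G => (z : G)) hab
    have h4 := (odd_oddCore (G := G)).of_dvd_nat h3
    rw [h2, Nat.even_mul] at h1
    exact h1.resolve_right (Nat.not_even_iff_odd.2 h4)
  · -- tight embedding
    intro g hg
    obtain ⟨g, rfl⟩ := hπ g
    have hg' : g ∉ normalizer ((centralizer (A : Set G) : Subgroup G) : Set G) := fun h => hg ((hNC g).2 h)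
    have h1 := hA.2.1.2 g hg'
    have h2 : (centralizer ((A.map (QuotientGroup.mk' (oddCore G)) : Subgroup (G ⧸ oddCore G)) :
        Set (G ⧸ oddCore G))) ⊓ (centralizer ((A.map (QuotientGroup.mk' (oddCore G)) :
          Subgroup (G ⧸ oddCore G)) : Set (G ⧸ oddCore G))).map
            (MulAut.conj (QuotientGroup.mk' (oddCore G) g)).toMonoidHom ≤
        (centralizer (A : Set G) ⊓ (centralizer (A : Set G)).map (MulAut.conj g).toMonoidHom).map
          (QuotientGroup.mk' (oddCore G)) := by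
      rw [hCmap, hmapconj]
      rintro _ ⟨⟨c, hc, rfl⟩, ⟨d, hd, hde⟩⟩
      refine ⟨c, ⟨hc, ?_⟩, rfl⟩
      have h3 : d⁻¹ * c ∈ oddCore G := QuotientGroup.eq.1 hde
      have h4 : g⁻¹ * (d⁻¹ * c) * g ∈ oddCore G := by
        have := hYn.conj_mem _ h3 g⁻¹
        rwa [inv_inv] at this
      obtain ⟨e, he, rfl⟩ := hd
      refine ⟨e * (g⁻¹ * (((MulAut.conj g).toMonoidHom e)⁻¹ * c) * g),
        (centralizer (A : Set G)).mul_mem he (hYC h4), ?_⟩
      simp
      group
    exact h1.of_dvd_nat ((card_dvd_of_le h2).trans (card_map_dvd _ _))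
  · -- commuting with conjugates
    intro g hne hcomm
    obtain ⟨g, rfl⟩ := hπ g
    rw [hmapconj] at hne hcomm
    have hne' : A.map (MulAut.conj g).toMonoidHom ≠ A := fun h => hne (by rw [h])
    apply hA.2.2.1 g hne'
    rw [commutator_comm, commutator_eq_bot_iff_le_centralizer, ← hcomap, ← map_le_iff_le_comap,
      ← commutator_eq_bot_iff_le_centralizer, commutator_comm]
    exact hcomm
  · -- normalizers
    ext g
    obtain ⟨g, rfl⟩ := hπ g
    rw [hNC, ← hA.2.2.2]
    constructor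
    · exact mem_normalizer_of_map hA hAY
    · intro h
      refine mem_normalizer_fintype fun x hx => ?_
      obtain ⟨x, hx, rfl⟩ := hx
      rw [← map_inv, ← map_mul, ← map_mul]
      exact ⟨_, (mem_normalizer_iff.1 h _).1 hx, rfl⟩

end Quot

section Main

variable [Finite G] {A : Subgroup G} (hA : IsStandardSubgroup A)
  (hAY : A ≤ centralizer (oddCore G : Set G)) (hAe : ¬ A ≤ oddCore G)
  {t : G} (ht : orderOf t = 2) (htA : t ∈ centralizer (A : Set G))
  (hnn : ¬ (A.map (QuotientGroup.mk' (oddCore G))).Normal)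

include hA hAY hAe ht htA hnn in
/-- modulo `O(G)` the normal closure of `A` is the layer, and the layer has trivial centralizer -/
theorem map_normalClosure :
    (normalClosure (A : Set G)).map (QuotientGroup.mk' (oddCore G)) = layer (G ⧸ oddCore G) ∧
      centralizer (layer (G ⧸ oddCore G) : Set (G ⧸ oddCore G)) = ⊥ := by
  have hYn : (oddCore G).Normal := Lib.Cores.pPrimeCore_normal 2
  have hπ : Function.Surjective (QuotientGroup.mk' (oddCore G)) := QuotientGroup.mk'_surjective _
  have hstd := isStandard_map hA hAY hAe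
  have hO : oddCore (G ⧸ oddCore G) = ⊥ := Lib.PComponents.pPrimeCore_quotient_eq_bot 2
  have htA' : QuotientGroup.mk' (oddCore G) t ∈
      centralizer ((A.map (QuotientGroup.mk' (oddCore G)) : Subgroup (G ⧸ oddCore G)) : Set (G ⧸ oddCore G)) := by
    rw [← mem_comap, comap_centralizer hA hAY]; exact htA
  have htn : QuotientGroup.mk' (oddCore G) t ≠ 1 := by
    intro h
    have h1 : t ∈ oddCore G := (QuotientGroup.eq_one_iff t).1 h
    have h2 := CoprimeInv.eq_one_of_pow_two (V := oddCore G) odd_oddCore (x := ⟨t, h1⟩) (k := 1)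
      (Subtype.ext (by push_cast; rw [pow_two]; exact mul_self_of_orderOf ht))
    exact ne_one_of_orderOf ht (congrArg Subtype.val h2)
  have ht' : orderOf (QuotientGroup.mk' (oddCore G) t) = 2 := by
    apply orderOf_eq_prime
    · rw [← map_pow, pow_two, mul_self_of_orderOf ht, map_one]
    · exact htn
  have h2 : pCore 2 (G ⧸ oddCore G) = ⊥ := by
    by_contra h
    exact hnn (SignalizersComponents.StandardTrichotomy.normal_of_pCore_ne_bot hstd ht' htA' h)
  have hC := SignalizersComponents.StandardTrichotomy.centralizer_layer_eq_bot hO h2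
  have hAE := S1347.le_layer hstd hO _ ht' htA' hC
  refine ⟨?_, hC⟩
  have hNn : ((normalClosure (A : Set G)).map (QuotientGroup.mk' (oddCore G))).Normal :=
    (normalClosure_normal).map _ hπ
  have hAN : A.map (QuotientGroup.mk' (oddCore G)) ≤
      (normalClosure (A : Set G)).map (QuotientGroup.mk' (oddCore G)) := map_mono subset_normalClosure
  apply le_antisymm
  · rw [map_le_iff_le_comap]
    have hEn : (layer (G ⧸ oddCore G)).Normal := SignalizersComponents.Components.layer_normal _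
    have hEc : ((layer (G ⧸ oddCore G)).comap (QuotientGroup.mk' (oddCore G))).Normal := hEn.comap _
    apply normalClosure_le_normal
    intro a ha
    exact hAE ⟨a, ha, rfl⟩
  · rw [SignalizersComponents.Components.layer_le_iff]
    intro L hL
    rcases SignalizersComponents.Components.component_le_or_commutator_eq_bot hL hNn.isSubnormal with h | h
    · exact h
    · exfalso
      apply hnn
      refine SignalizersComponents.StandardTrichotomy.normal_of_component_le hstd hO hAE hL ?_
      rw [← commutator_eq_bot_iff_le_centralizer, eq_bot_iff, ← h]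
      exact commutator_mono le_rfl hAN

include hA hAY hAe ht htA hnn in
/-- **the normal closure is its own layer** -/
theorem layer_normalClosure : layer ↥(normalClosure (A : Set G)) = ⊤ := by
  obtain ⟨hmap, -⟩ := map_normalClosure hA hAY hAe ht htA hnn
  have hYn : (oddCore G).Normal := Lib.Cores.pPrimeCore_normal 2
  have hπ : Function.Surjective (QuotientGroup.mk' (oddCore G)) := QuotientGroup.mk'_surjective _
  have hCn : (centralizer (oddCore G : Set G)).Normal := inferInstance
  obtain ⟨X, hX⟩ : ∃ X, X = normalClosure (A : Set G) := ⟨_, rfl⟩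
  have hXn : X.Normal := by rw [hX]; exact normalClosure_normal
  have hAX : A ≤ X := by rw [hX]; exact subset_normalClosure
  rw [← hX] at hmap ⊢
  have hXC : X ≤ centralizer (oddCore G : Set G) := by rw [hX]; exact normalClosure_le_normal hAY
  -- `X` is perfect
  have hXp : ⁅X, X⁆ = X := by
    apply le_antisymm (commutator_le_left X X)
    have h1 : A ≤ ⁅X, X⁆ := by
      have hperf : ⁅A, A⁆ = A := Subgroup.isPerfect_iff.mp hA.1.1
      calc A = ⁅A, A⁆ := hperf.symm
        _ ≤ ⁅X, X⁆ := commutator_mono hAX hAX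
    have h2 : (⁅X, X⁆ : Subgroup G).Normal := inferInstance
    calc X = normalClosure (A : Set G) := hX
      _ ≤ ⁅X, X⁆ := normalClosure_le_normal h1
  -- the 2-components of `G` lie in `X`
  have hle : ∀ K : Subgroup G, IsPComponent 2 K → K ≤ X := by
    intro K hK
    have h1 : K.map (QuotientGroup.mk' (oddCore G)) ≤ X.map (QuotientGroup.mk' (oddCore G)) := by
      rw [hmap, ← Lib.PComponents.map_pLayer]
      exact map_mono (Lib.PComponents.pcomp_le_pLayer hK)
    have h2 : K ≤ X ⊔ oddCore G := by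
      have := (map_le_iff_le_comap.1 h1)
      rwa [comap_map_eq, QuotientGroup.ker_mk'] at this
    have h3 : X.relIndex K ∣ Nat.card (oddCore G) := by
      have e1 : X.relIndex K = X.relIndex (K ⊔ X) := (relIndex_sup_right _ _).symm
      have e2 : X.relIndex (K ⊔ X) ∣ X.relIndex (X ⊔ oddCore G) := by
        have e3 := relIndex_mul_relIndex (H := X) (K := K ⊔ X) (L := X ⊔ oddCore G) le_sup_right
          (sup_le h2 le_sup_left)
        exact Dvd.intro _ e3
      have e4 : X.relIndex (X ⊔ oddCore G) = X.relIndex (oddCore G) := by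
        rw [sup_comm]; exact relIndex_sup_right _ _
      rw [e1]
      refine e2.trans ?_
      rw [e4]
      exact relIndex_dvd_card _ _
    have h4 : (X.relIndex K).Coprime 2 :=
      Nat.coprime_two_right.2 ((odd_oddCore (G := G)).of_dvd_nat h3)
    have h5 := Lib.PComponents.pElem_le_of_isSubnormal (p := 2) (K := X) (Y := K)
      ((hXn.subgroupOf K).isSubnormal) h4
    rwa [Lib.PComponents.pElem_pcomp hK] at h5
  have hPX : pLayer 2 G ≤ X := sSup_le fun K hK => hle K hK
  have hXP : X ≤ pLayer 2 G := by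
    have h1 : X ≤ pLayer 2 G ⊔ oddCore G := by
      have h2 : X.map (QuotientGroup.mk' (oddCore G)) ≤ (pLayer 2 G).map (QuotientGroup.mk' (oddCore G)) := by
        rw [hmap, ← Lib.PComponents.map_pLayer]
      have := (map_le_iff_le_comap.1 h2)
      rwa [comap_map_eq, QuotientGroup.ker_mk'] at this
    have hdec : ∀ x ∈ X, ∃ p ∈ pLayer 2 G, ∃ y ∈ oddCore G, x = p * y ∧ y ∈ X := by
      intro x hx
      obtain ⟨p, hp, y, hy, rfl⟩ := mem_sup_of_normal_right.1 (h1 hx)
      exact ⟨p, hp, y, hy, rfl, (X.mul_mem_cancel_left (hPX hp)).1 hx⟩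
    rw [← hXp]
    conv_lhs => rw [hXp]
    calc X = ⁅X, X⁆ := hXp.symm
      _ ≤ pLayer 2 G := by
        rw [commutator_le]
        intro x₁ hx₁ x₂ hx₂
        obtain ⟨p₁, hp₁, y₁, hy₁, rfl, hyX₁⟩ := hdec x₁ hx₁
        obtain ⟨p₂, hp₂, y₂, hy₂, rfl, hyX₂⟩ := hdec x₂ hx₂
        have k1 : Commute p₁ y₁ := ((mem_centralizer_iff.1 (hXC (hPX hp₁))) y₁ hy₁).symm
        have k2 : Commute p₁ y₂ := ((mem_centralizer_iff.1 (hXC (hPX hp₁))) y₂ hy₂).symm
        have k3 : Commute p₂ y₁ := ((mem_centralizer_iff.1 (hXC (hPX hp₂))) y₁ hy₁).symm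
        have k4 : Commute p₂ y₂ := ((mem_centralizer_iff.1 (hXC (hPX hp₂))) y₂ hy₂).symm
        have k5 : Commute y₁ y₂ := ((mem_centralizer_iff.1 (hXC hyX₁)) y₂ hy₂).symm
        have : ⁅p₁ * y₁, p₂ * y₂⁆ = ⁅p₁, p₂⁆ := by
          rw [commutatorElement_def, commutatorElement_def]
          have m1 : p₁ * y₁ * (p₂ * y₂) = (p₁ * p₂) * (y₁ * y₂) := by
            rw [mul_assoc, ← mul_assoc y₁, ← k3.eq]; group
          have m2 : (p₁ * y₁)⁻¹ * (p₂ * y₂)⁻¹ = (y₁ * y₂)⁻¹ * (p₁⁻¹ * p₂⁻¹) := by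
            rw [← mul_inv_rev, ← mul_inv_rev, ← mul_inv_rev]
            congr 1
            calc p₂ * y₂ * (p₁ * y₁) = p₂ * (y₂ * p₁) * y₁ := by group
              _ = p₂ * (p₁ * y₂) * y₁ := by rw [k2.eq]
              _ = p₂ * p₁ * (y₂ * y₁) := by group
              _ = p₂ * p₁ * (y₁ * y₂) := by rw [k5.eq]
          calc p₁ * y₁ * (p₂ * y₂) * (p₁ * y₁)⁻¹ * (p₂ * y₂)⁻¹
              = (p₁ * y₁ * (p₂ * y₂)) * ((p₁ * y₁)⁻¹ * (p₂ * y₂)⁻¹) := by group
            _ = (p₁ * p₂) * (y₁ * y₂) * ((y₁ * y₂)⁻¹ * (p₁⁻¹ * p₂⁻¹)) := by rw [m1, m2]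
            _ = p₁ * p₂ * p₁⁻¹ * p₂⁻¹ := by group
        rw [this, commutatorElement_def]
        have hP := pLayer 2 G
        exact (pLayer 2 G).mul_mem ((pLayer 2 G).mul_mem ((pLayer 2 G).mul_mem hp₁ hp₂)
          ((pLayer 2 G).inv_mem hp₁)) ((pLayer 2 G).inv_mem hp₂)
  -- conclude
  rw [eq_top_iff]
  have h1 : (layer X).map X.subtype = X := by
    apply le_antisymm (map_subtype_le _)
    refine hXP.trans (sSup_le fun K hK => ?_)
    have hK' : IsPComponent 2 K := hK
    have hKX := hle K hK'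
    have hcK : ⁅K, pPrimeCore 2 G⁆ = ⊥ := by
      rw [commutator_eq_bot_iff_le_centralizer]; exact hKX.trans hXC
    have hcomp := ClassificationK.PCompTransport.isComponent_of_isPComponent 2 hK' hcK
    have h2 := SignalizersComponents.Components.component_le_layer
      (SignalizersComponents.Components.isComponent_subgroupOf hKX hcomp)
    calc K = (K.subgroupOf X).map X.subtype := by rw [subgroupOf_map_subtype, inf_eq_left.2 hKX]
      _ ≤ _ := map_mono h2
  intro x _
  have hx : (x : G) ∈ (layer X).map X.subtype := by rw [h1]; exact x.2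
  obtain ⟨y, hy, hyx⟩ := hx
  have : y = x := Subtype.ext hyx
  rwa [← this]

include hA hAY hAe ht htA hnn in
/-- the centre of the normal closure has odd order -/
theorem odd_center : Odd (Nat.card ↥(center ↥(normalClosure (A : Set G)))) := by
  obtain ⟨hmap, hC⟩ := map_normalClosure hA hAY hAe ht htA hnn
  have h1 : (center ↥(normalClosure (A : Set G))).map (normalClosure (A : Set G)).subtype ≤ oddCore G := by
    rintro _ ⟨z, hz, rfl⟩
    have h2 : QuotientGroup.mk' (oddCore G) (z : G) ∈ centralizer (layer (G ⧸ oddCore G) : Set (G ⧸ oddCore G)) := by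
      rw [mem_centralizer_iff, ← hmap]
      rintro _ ⟨x, hx, rfl⟩
      rw [← map_mul, ← map_mul]
      congr 1
      exact congrArg Subtype.val (mem_center_iff.1 hz ⟨x, hx⟩)
    rw [hC, mem_bot] at h2
    exact (QuotientGroup.eq_one_iff _).1 h2
  have h3 : Nat.card ((center ↥(normalClosure (A : Set G))).map (normalClosure (A : Set G)).subtype) =
      Nat.card (center ↥(normalClosure (A : Set G))) :=
    Nat.card_congr (equivMapOfInjective _ _ (subtype_injective _)).toEquiv.symm
  rw [← h3]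
  exact (odd_oddCore (G := G)).of_dvd_nat (card_dvd_of_le h1)

end Main

/-- **S3164** -/
theorem main [Finite G] (A : Subgroup G) (hA : Cfsg.IsStandardSubgroup A)
    (hcyc : ∀ R : Sylow 2 ↥(Subgroup.centralizer (A : Set G)), IsCyclic ↥(R : Subgroup ↥(Subgroup.centralizer (A : Set G)))) (t : G) (ht : orderOf t = 2) (htA : t ∈ Subgroup.centralizer (A : Set G))
    (R : Subgroup G) (hR2 : IsPGroup 2 ↥R) (hRX : R ≤ Subgroup.normalClosure (A : Set G)) (hRt : ∀ r ∈ R, t * r * t⁻¹ ∈ R)
    (hc1 : ⁅R, Subgroup.zpowers t⁆ ≠ ⊥) (hc2 : ⁅R, Subgroup.zpowers t⁆ ≤ A) :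
    Cfsg.layer ↥(Subgroup.normalClosure (A : Set G)) = ⊤ ∧ Odd (Nat.card ↥(Subgroup.center ↥(Subgroup.normalClosure (A : Set G)))) := by
  have hYn : (oddCore G).Normal := Lib.Cores.pPrimeCore_normal 2
  have hπ : Function.Surjective (QuotientGroup.mk' (oddCore G)) := QuotientGroup.mk'_surjective _
  have hAY := le_centralizer_oddCore hA ht htA hR2 hRt hc1 hc2 hcyc
  obtain ⟨r₀, hr₀, hne₀⟩ := exists_ne hc1
  have hAe : ¬ A ≤ oddCore G := fun h =>
    hne₀ (eq_one_of_mem_oddCore hR2 hRt hr₀ (h (hc2 (commutator_mem_commutator hr₀ (mem_zpowers t)))))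
  have hnn : ¬ (A.map (QuotientGroup.mk' (oddCore G))).Normal := by
    intro hn
    have h1 : normalClosure (A : Set G) ≤ (A.map (QuotientGroup.mk' (oddCore G))).comap
        (QuotientGroup.mk' (oddCore G)) := by
      have hn' : ((A.map (QuotientGroup.mk' (oddCore G))).comap (QuotientGroup.mk' (oddCore G))).Normal :=
        hn.comap _
      exact normalClosure_le_normal (fun a ha => ⟨a, ha, rfl⟩)
    obtain ⟨a, ha, hae⟩ := h1 (hRX hr₀)
    apply hne₀
    apply eq_one_of_mem_oddCore hR2 hRt hr₀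
    rw [← QuotientGroup.eq_one_iff]
    have h2 : QuotientGroup.mk' (oddCore G) ⁅r₀, t⁆ = 1 := by
      rw [map_commutatorElement, ← hae, ← map_commutatorElement]
      have : ⁅a, t⁆ = 1 := by
        rw [commutatorElement_eq_one_iff_commute]
        exact (mem_centralizer_iff.1 htA) a ha
      rw [this, map_one]
    exact h2
  exact ⟨layer_normalClosure hA hAY hAe ht htA hnn, odd_center hA hAY hAe ht htA hnn⟩

end Cfsg.Agent.H300.StdOdd
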